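import Groth.Prelude.Def_ParBun
import Mathlib.MeasureTheory.Integral.IntervalIntegral.Basic

/-! The weight term of a parabolic structure as an integral of its real filtration. -/

set_option autoImplicit false
set_option maxHeartbeats 400000

noncomputable section

universe v u

open CategoryTheory CategoryTheory.Limits MeasureTheory

namespace Groth.Agent.H98Par

theorem exists_idx {n : ℕ} (w : Fin (n + 1) → ℝ) (hw : Monotone w) (a : ℝ) :
    ∃ i : Fin (n + 2), ∀ j, a ≤ w j ↔ i ≤ j.castSucc := by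
  classical
  by_cases h : ∃ j, a ≤ w j
  · obtain ⟨j₀, hj₀, hmin⟩ := Finset.exists_min_image (Finset.univ.filter fun j => a ≤ w j) id
      (by obtain ⟨j, hj⟩ := h; exact ⟨j, Finset.mem_filter.2 ⟨Finset.mem_univ _, hj⟩⟩)
    refine ⟨j₀.castSucc, fun j => ⟨fun hj => ?_, fun hj => ?_⟩⟩
    · exact Fin.castSucc_le_castSucc_iff.2 (hmin j (Finset.mem_filter.2 ⟨Finset.mem_univ _, hj⟩))
    · exact le_trans (Finset.mem_filter.1 hj₀).2 (hw (Fin.castSucc_le_castSucc_iff.1 hj))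
  · refine ⟨Fin.last (n + 1), fun j => ⟨fun hj => absurd ⟨j, hj⟩ h, fun hj => ?_⟩⟩
    exact absurd hj (not_le.2 (Fin.castSucc_lt_last j))

theorem sum_tail {n : ℕ} (g : Fin (n + 2) → ℝ) (i : Fin (n + 2)) :
    ∑ j : Fin (n + 1), (if i ≤ j.castSucc then g j.castSucc - g j.succ else 0) =
      g i - g (Fin.last (n + 1)) := by
  induction i using Fin.reverseInduction with
  | last => simp [not_le.2 (Fin.castSucc_lt_last _)]
  | cast i ih =>
    have h : ∀ j : Fin (n + 1), (if i.castSucc ≤ j.castSucc then g j.castSucc - g j.succ else 0) =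
        (if i = j then g j.castSucc - g j.succ else 0) +
          (if i.succ ≤ j.castSucc then g j.castSucc - g j.succ else 0) := fun j => by
      simp only [Fin.le_def, Fin.ext_iff, Fin.val_castSucc, Fin.val_succ]
      split_ifs <;> first | omega | simp
    rw [Finset.sum_congr rfl fun j _ => h j, Finset.sum_add_distrib, ih, Finset.sum_ite_eq,
      if_pos (Finset.mem_univ _)]
    ring

variable {C : Type u} [Category.{v} C] [HasImages C] [HasBinaryCoproducts C] [HasInitial C]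
  [InitialMonoClass C] {E : C}

theorem at_eq_pieceX (𝓔 : ParSh.Str E) {a : ℝ} {i : Fin (𝓔.l + 2)}
    (hi : ∀ j, a ≤ 𝓔.wt j ↔ i ≤ j.castSucc) : 𝓔.at a = 𝓔.pieceX i := by
  induction i using Fin.lastCases with
  | last =>
    rw [𝓔.pieceX_last]
    exact 𝓔.at_eq_bot fun j => not_le.1 fun hj => absurd ((hi j).1 hj) (not_le.2 (Fin.castSucc_lt_last j))
  | cast i =>
    rw [𝓔.pieceX_castSucc]
    exact 𝓔.at_eq_piece i ((hi i).2 le_rfl) fun j hj =>
      not_le.1 fun h => absurd ((hi j).1 h) (not_le.2 (Fin.castSucc_lt_castSucc_iff.2 hj))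

theorem exists_at_eq_pieceX (𝓔 : ParSh.Str E) (a : ℝ) :
    ∃ i : Fin (𝓔.l + 2), (∀ j, a ≤ 𝓔.wt j ↔ i ≤ j.castSucc) ∧ 𝓔.at a = 𝓔.pieceX i := by
  obtain ⟨i, hi⟩ := exists_idx 𝓔.wt 𝓔.wt_strictMono.monotone a
  exact ⟨i, hi, at_eq_pieceX 𝓔 hi⟩

/-- The step function whose integral is the weight term. -/
def stepFn (𝓔 : ParSh.Str E) (χ : C → ℝ) (a : ℝ) : ℝ :=
  ∑ j : Fin (𝓔.l + 1), {x : ℝ | x ≤ 𝓔.wt j}.indicator
    (fun _ => χ (𝓔.pieceX j.castSucc : C) - χ (𝓔.pieceX j.succ : C)) a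

theorem stepFn_eq (𝓔 : ParSh.Str E) (χ : C → ℝ) (a : ℝ) :
    stepFn 𝓔 χ a = χ (𝓔.at a : C) - χ (𝓔.bot : C) := by
  classical
  obtain ⟨i, hi, he⟩ := exists_at_eq_pieceX 𝓔 a
  rw [he]
  refine (Finset.sum_congr rfl fun j _ => ?_).trans
    ((sum_tail (fun m => χ (𝓔.pieceX m : C)) i).trans
      (congrArg (fun S : Subobject E => χ (𝓔.pieceX i : C) - χ (S : C)) 𝓔.pieceX_last))
  rw [Set.indicator_apply]
  exact if_congr (hi j) rfl rfl

theorem intervalIntegrable_indicator (w d a b : ℝ) :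
    IntervalIntegrable ({x : ℝ | x ≤ w}.indicator fun _ => d) volume a b :=
  ⟨(intervalIntegrable_const (c := d)).1.indicator measurableSet_Iic,
    (intervalIntegrable_const (c := d)).2.indicator measurableSet_Iic⟩

omit [HasImages C] [HasBinaryCoproducts C] [HasInitial C] [InitialMonoClass C] in
theorem intervalIntegrable_stepFn (𝓔 : ParSh.Str E) (χ : C → ℝ) :
    IntervalIntegrable (stepFn 𝓔 χ) volume 0 1 := by
  have := IntervalIntegrable.sum Finset.univ fun (j : Fin (𝓔.l + 1)) _ =>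
    intervalIntegrable_indicator (𝓔.wt j) (χ (𝓔.pieceX j.castSucc : C) - χ (𝓔.pieceX j.succ : C)) 0 1
  rw [Finset.sum_fn] at this
  exact this

omit [HasImages C] [HasBinaryCoproducts C] [HasInitial C] [InitialMonoClass C] in
theorem integral_stepFn (𝓔 : ParSh.Str E) (χ : C → ℝ) :
    ∫ a in (0:ℝ)..1, stepFn 𝓔 χ a =
      ∑ j : Fin (𝓔.l + 1), 𝓔.wt j * (χ (𝓔.piece j : C) - χ (𝓔.pieceX j.succ : C)) := by
  unfold stepFn
  rw [intervalIntegral.integral_finsetSum fun j _ => intervalIntegrable_indicator _ _ 0 1]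
  refine Finset.sum_congr rfl fun j _ => ?_
  rw [intervalIntegral.integral_indicator ⟨le_trans 𝓔.wt_nonneg (𝓔.wt_strictMono.monotone (Fin.zero_le j)),
    le_trans (𝓔.wt_strictMono.monotone (Fin.le_last j)) 𝓔.wt_lt_one.le⟩]
  simp [𝓔.pieceX_castSucc, mul_sub]

/-- Pointwise comparison of real filtrations bounds the weight terms. -/
theorem sum_le_sum_of_at {F : C} (𝓔 : ParSh.Str E) (𝓕 : ParSh.Str F) (χ : C → ℝ) (c : ℝ)
    (h : ∀ a : ℝ, 0 ≤ a → a ≤ 1 →
      χ (𝓔.at a : C) - χ (𝓔.bot : C) + c ≤ χ (𝓕.at a : C) - χ (𝓕.bot : C)) :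
    ∑ j : Fin (𝓔.l + 1), 𝓔.wt j * (χ (𝓔.piece j : C) - χ (𝓔.pieceX j.succ : C)) + c ≤
      ∑ j : Fin (𝓕.l + 1), 𝓕.wt j * (χ (𝓕.piece j : C) - χ (𝓕.pieceX j.succ : C)) := by
  rw [← integral_stepFn, ← integral_stepFn]
  have hi := intervalIntegrable_stepFn 𝓔 χ
  have e : (∫ a in (0:ℝ)..1, stepFn 𝓔 χ a) + c = ∫ a in (0:ℝ)..1, (stepFn 𝓔 χ a + c) := by
    rw [intervalIntegral.integral_add hi intervalIntegrable_const, intervalIntegral.integral_const]
    simp
  rw [e]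
  refine intervalIntegral.integral_mono_on zero_le_one (hi.add intervalIntegrable_const)
    (intervalIntegrable_stepFn 𝓕 χ) fun a ha => ?_
  rw [stepFn_eq, stepFn_eq]
  exact h a ha.1 ha.2

end Groth.Agent.H98Par

end
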