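import Groth.Agent.H98Par.Fin
import Groth.Agent.H98Par.Step

/-! Parabolic degrees of quotients and saturations on a curve. -/

set_option autoImplicit false
set_option maxHeartbeats 400000
set_option linter.style.haveILetI false
set_option backward.isDefEq.respectTransparency.types false

noncomputable section

universe u

open CategoryTheory Limits AlgebraicGeometry
open Groth.Agent.QC70 Groth.Agent.VB30

namespace Groth.Agent.H98Par

variable {X : Scheme.{u}}

theorem factors_of_eq {E : X.Modules} {P : Subobject E} {W : X.Modules} {g : W ⟶ E} (t : W ⟶ (P : X.Modules))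
    (h : t ≫ P.arrow = g) : P.Factors g :=
  h ▸ Subobject.factors_comp_arrow t

theorem coinduced_pieceX {E V : X.Modules} (𝓔 : ParSh.Str E) (q : E ⟶ V) [Epi q] (j : Fin (𝓔.l + 2)) :
    (𝓔.coinduced q).pieceX j = imageSubobject ((𝓔.pieceX j).arrow ≫ q) := by
  induction j using Fin.lastCases with
  | last => rw [ParSh.Str.pieceX_last]; exact (𝓔.coinduced q).pieceX_last
  | cast j => rw [ParSh.Str.pieceX_castSucc]; exact (𝓔.coinduced q).pieceX_castSucc j

theorem induced_pieceX' {E W : X.Modules} (𝓔 : ParSh.Str E) (i : W ⟶ E) (j : Fin (𝓔.l + 2)) :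
    (𝓔.induced i).pieceX j = (Subobject.pullback i).obj (𝓔.pieceX j) := by
  induction j using Fin.lastCases with
  | last => rw [ParSh.Str.pieceX_last]; exact (𝓔.induced i).pieceX_last
  | cast j => rw [ParSh.Str.pieceX_castSucc]; exact (𝓔.induced i).pieceX_castSucc j

theorem coinduced_at {E V : X.Modules} (𝓔 : ParSh.Str E) (q : E ⟶ V) [Epi q] (a : ℝ) :
    (𝓔.coinduced q).at a = imageSubobject ((𝓔.at a).arrow ≫ q) := by
  obtain ⟨i, hi, he⟩ := exists_at_eq_pieceX 𝓔 a
  exact (at_eq_pieceX (𝓔.coinduced q) hi).trans ((coinduced_pieceX 𝓔 q i).trans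
    (congrArg (fun S : Subobject E => imageSubobject (S.arrow ≫ q)) he.symm))

theorem induced_at {E W : X.Modules} (𝓔 : ParSh.Str E) (i : W ⟶ E) (a : ℝ) :
    (𝓔.induced i).at a = (Subobject.pullback i).obj (𝓔.at a) := by
  obtain ⟨j, hj, he⟩ := exists_at_eq_pieceX 𝓔 a
  exact (at_eq_pieceX (𝓔.induced i) hj).trans ((induced_pieceX' 𝓔 i j).trans
    (congrArg (fun S : Subobject E => (Subobject.pullback i).obj S) he.symm))

theorem isParHom_coinduced {E V : X.Modules} (𝓔 : ParSh.Str E) (q : E ⟶ V) [Epi q] :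
    ParSh.IsParHom 𝓔 (𝓔.coinduced q) q := fun a _ _ => by
  rw [coinduced_at]
  exact factors_of_eq _ (imageSubobject_arrow_comp _)

theorem isParHom_induced {E W : X.Modules} (𝓔 : ParSh.Str E) (i : W ⟶ E) :
    ParSh.IsParHom (𝓔.induced i) 𝓔 i := fun a _ _ => by
  rw [induced_at]
  exact factors_of_eq _ (Subobject.isPullback i _).w

theorem isParHom_comp {E F G : X.Modules} {𝓔 : ParSh.Str E} {𝓕 : ParSh.Str F} {𝓖 : ParSh.Str G}
    {f : E ⟶ F} {g : F ⟶ G} (hf : ParSh.IsParHom 𝓔 𝓕 f) (hg : ParSh.IsParHom 𝓕 𝓖 g) :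
    ParSh.IsParHom 𝓔 𝓖 (f ≫ g) := fun a h0 h1 => by
  refine factors_of_eq
    (Subobject.factorThru _ _ (hf a h0 h1) ≫ Subobject.factorThru _ _ (hg a h0 h1)) ?_
  rw [Category.assoc, Subobject.factorThru_arrow, Subobject.factorThru_arrow_assoc, Category.assoc]

theorem twistMap_naturality (I : X.IdealSheafData) {E F : X.Modules} (φ : E ⟶ F) :
    KoszTw.tensorMap φ (𝟙 (ClSub.idealMod I)) ≫ ParSh.twistMap I F = ParSh.twistMap I E ≫ φ := by
  unfold ParSh.twistMap
  rw [← Category.assoc, H98GP.tensorMap_exchange, Category.assoc, H98GP.unitorR_naturality,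
    Category.assoc]

theorem mono_twistMap (I : X.IdealSheafData) {E : X.Modules} (hE : FlatMod.IsFinLocFree E) :
    Mono (ParSh.twistMap I E) := by
  haveI : Mono (KoszTw.tensorMap (𝟙 E) (ClSub.idealModι I)) := by
    rw [← KoszTw.tensorBi_obj_map]
    exact (KRR40.shortExact_tensor (H98GP.flat_stalk_of_lf hE) (Crv77.idealSeq_shortExact I)).mono_f
  unfold ParSh.twistMap
  infer_instance

theorem exists_twistIso (I : X.IdealSheafData) {E : X.Modules} (hE : FlatMod.IsFinLocFree E) :
    ∃ e : CohB1.tensorMod E (ClSub.idealMod I) ≅ (ParSh.twistSub I E : X.Modules),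
      e.hom ≫ (ParSh.twistSub I E).arrow = ParSh.twistMap I E := by
  haveI := mono_twistMap I hE
  unfold ParSh.twistSub
  haveI : Mono (factorThruImageSubobject (ParSh.twistMap I E)) :=
    mono_of_mono_fac (imageSubobject_arrow_comp (ParSh.twistMap I E))
  haveI : IsIso (factorThruImageSubobject (ParSh.twistMap I E)) := isIso_of_mono_of_epi _
  exact ⟨asIso (factorThruImageSubobject (ParSh.twistMap I E)), imageSubobject_arrow_comp _⟩

theorem imageSubobject_twistSub (I : X.IdealSheafData) {E V : X.Modules} (q : E ⟶ V) [Epi q] :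
    imageSubobject ((ParSh.twistSub I E).arrow ≫ q) = ParSh.twistSub I V := by
  haveI := epi_tensorMap_left q (ClSub.idealMod I)
  have key : ∀ {A B C : X.Modules} (f : A ⟶ B) (g : B ⟶ C) [Epi f],
      imageSubobject (f ≫ g) = imageSubobject g := fun f g _ => by
    refine le_antisymm (imageSubobject_comp_le f g) ?_
    haveI : IsIso (Subobject.ofLE _ _ (imageSubobject_comp_le f g)) := isIso_of_mono_of_epi _
    exact Subobject.le_of_comm (inv (Subobject.ofLE _ _ (imageSubobject_comp_le f g))) (by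
      rw [IsIso.inv_comp_eq, Subobject.ofLE_arrow])
  unfold ParSh.twistSub
  have h := key (factorThruImageSubobject (ParSh.twistMap I E)) ((imageSubobject (ParSh.twistMap I E)).arrow ≫ q)
  rw [← Category.assoc, imageSubobject_arrow_comp, ← twistMap_naturality, key] at h
  exact h.symm

theorem twistSub_le_pullback (I : X.IdealSheafData) {F V : X.Modules} (ι : V ⟶ F) :
    ParSh.twistSub I V ≤ (Subobject.pullback ι).obj (ParSh.twistSub I F) := by
  have sq := Subobject.isPullback ι (ParSh.twistSub I F)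
  have hw : (KoszTw.tensorMap ι (𝟙 (ClSub.idealMod I)) ≫ factorThruImageSubobject (ParSh.twistMap I F)) ≫
      (ParSh.twistSub I F).arrow = ParSh.twistMap I V ≫ ι := by
    rw [Category.assoc, ← twistMap_naturality]
    exact congrArg _ (imageSubobject_arrow_comp _)
  exact imageSubobject_le _ (sq.lift _ _ hw) (sq.lift_snd _ _ _)

theorem pullback_twistSub (I : X.IdealSheafData) {S : ShortComplex X.Modules} (hS : S.ShortExact)
    (h₂ : FlatMod.IsFinLocFree S.X₂) (h₃ : FlatMod.IsFinLocFree S.X₃) :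
    (Subobject.pullback S.f).obj (ParSh.twistSub I S.X₂) = ParSh.twistSub I S.X₁ := by
  refine le_antisymm ?_ (twistSub_le_pullback I S.f)
  haveI := hS.mono_f
  haveI := mono_twistMap I h₂
  haveI := mono_twistMap I h₃
  obtain ⟨w, hT⟩ := H98GP.exists_tensor_right hS h₃ (ClSub.idealMod I)
  haveI := hT.mono_f
  have sq := Subobject.isPullback S.f (ParSh.twistSub I S.X₂)
  obtain ⟨e₂, he₂⟩ := exists_twistIso I h₂
  let y := Subobject.pullbackπ S.f (ParSh.twistSub I S.X₂) ≫ e₂.inv
  have hy : y ≫ ParSh.twistMap I S.X₂ =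
      ((Subobject.pullback S.f).obj (ParSh.twistSub I S.X₂)).arrow ≫ S.f := by
    rw [Category.assoc, ← sq.w]
    exact congrArg _ (e₂.inv_comp_eq.2 he₂.symm)
  have hy0 : y ≫ KoszTw.tensorMap S.g (𝟙 (ClSub.idealMod I)) = 0 := by
    rw [← cancel_mono (ParSh.twistMap I S.X₃), Category.assoc, twistMap_naturality, reassoc_of% hy,
      S.zero, comp_zero, zero_comp]
  refine Subobject.le_of_comm (hT.exact.lift y hy0 ≫ factorThruImageSubobject (ParSh.twistMap I S.X₁)) ?_
  rw [Category.assoc]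
  refine (congrArg _ (imageSubobject_arrow_comp _)).trans ?_
  rw [← cancel_mono S.f, Category.assoc, ← twistMap_naturality, ← hy]
  exact (Category.assoc _ _ _).symm.trans (congrArg (fun t => t ≫ ParSh.twistMap I S.X₂) (hT.exact.lift_f y hy0))

theorem exists_shortExact_at {F E G : X.Modules} {i : F ⟶ E} {p : E ⟶ G} (w : i ≫ p = 0)
    (hS : (ShortComplex.mk i p w).ShortExact) (y : Subobject E) :
    ∃ (h : Subobject.pullbackπ i y ≫ factorThruImageSubobject (y.arrow ≫ p) = 0),
      (ShortComplex.mk (Subobject.pullbackπ i y) (factorThruImageSubobject (y.arrow ≫ p)) h).ShortExact := by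
  have sq := Subobject.isPullback i y
  haveI : Mono i := hS.mono_f
  haveI : Mono (Subobject.pullbackπ i y) := PullbackCone.mono_fst_of_is_pullback_of_mono sq.isLimit
  have h : Subobject.pullbackπ i y ≫ factorThruImageSubobject (y.arrow ≫ p) = 0 := by
    rw [← cancel_mono (imageSubobject (y.arrow ≫ p)).arrow, Category.assoc, imageSubobject_arrow_comp,
      zero_comp, reassoc_of% sq.w, w, comp_zero]
  refine ⟨h, ShortComplex.ShortExact.mk' (ShortComplex.exact_of_f_is_kernel _
    (KernelFork.IsLimit.ofι' _ h fun {T} x hx => ?_)) inferInstance inferInstance⟩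
  have hx' : (x ≫ y.arrow) ≫ p = 0 := by
    rw [Category.assoc, ← imageSubobject_arrow_comp (y.arrow ≫ p), reassoc_of% hx, zero_comp]
  exact ⟨sq.lift x (hS.exact.lift (x ≫ y.arrow) hx') (hS.exact.lift_f _ _).symm, sq.lift_fst _ _ _⟩

section Curve

variable {k : Type u} [Field k] [X.Over (Spec (CommRingCat.of k))] [IsIntegral X] {I : X.IdealSheafData}
  (h : VB30.Cur k X) (hD : FGA.IsEffCartier I)

include h hD in
theorem twistSub_facts {E : X.Modules} (hE : FlatMod.IsFinLocFree E) :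
    Coh.IsCoh (ParSh.twistSub I E : X.Modules) ∧
      Curv2.euler k X E - Curv2.euler k X (ParSh.twistSub I E : X.Modules) =
        -(rk E : ℤ) * dg k (ClSub.idealMod I) ∧
      ∃ S : Set X, S.Finite ∧ (∀ x ∈ S, IsClosed ({x} : Set X)) ∧
        Crv77.SuppIn (cokernel (ParSh.twistSub I E).arrow) S := by
  obtain ⟨e, -⟩ := exists_twistIso I hE
  obtain ⟨hl, hr, hd⟩ := h.tensor_invertible hE ((Curves2.isInvertible_idealMod_iff I).2 hD)
  have hc : Coh.IsCoh (ParSh.twistSub I E : X.Modules) := Crv77.isCoh_of_iso e (isCoh_of_isFinLocFree hl)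
  rw [rk_congr e] at hr
  rw [dg_congr e] at hd
  refine ⟨hc, ?_, ?_⟩
  · rw [dg, dg, Curv2.deg, Curv2.deg, hr] at hd
    rw [neg_mul]
    linarith
  · have hEc := isCoh_of_isFinLocFree hE
    have hr0 := h.rk_add (shortExact_cokernel (ParSh.twistSub I E).arrow) hEc
    dsimp only at hr0
    exact h.exists_suppIn (h.isCoh_cokernel _ hc hEc) (by omega)

include h hD in
theorem finBdd_of_twistSub_le {E : X.Modules} (hE : FlatMod.IsFinLocFree E) {y : Subobject E}
    (hy : ParSh.twistSub I E ≤ y) : Crv77.FinBdd k (y : X.Modules) 2 := by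
  obtain ⟨hc, -, S, hS, hcl, hsupp⟩ := twistSub_facts h hD hE
  exact finBdd_of_le h.curveCoh hy hc (isCoh_of_isFinLocFree hE) hsupp hS hcl

include h hD in
/-- A generically bijective map of bundles can only increase the Euler characteristic of sandwiched subobjects. -/
theorem euler_le_of_map {V V' : X.Modules} (hV : FlatMod.IsFinLocFree V) (hV' : FlatMod.IsFinLocFree V')
    (u : V ⟶ V') [Mono u] (hr : rk V = rk V') {A : Subobject V} {B : Subobject V'}
    (hA : ParSh.twistSub I V ≤ A) (hB : ParSh.twistSub I V' ≤ B) (hu : B.Factors (A.arrow ≫ u)) :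
    Curv2.euler k X (A : X.Modules) ≤ Curv2.euler k X (B : X.Modules) := by
  obtain ⟨-, -, S, hS, hcl, hsupp⟩ := twistSub_facts h hD hV
  have hV'c := isCoh_of_isFinLocFree hV'
  have hr0 := h.rk_add (shortExact_cokernel u) hV'c
  dsimp only at hr0
  obtain ⟨T, hT, hTcl, hTsupp⟩ :=
    h.exists_suppIn (h.isCoh_cokernel u (isCoh_of_isFinLocFree hV) hV'c) (by omega)
  let t := B.factorThru _ hu
  haveI : Mono t := mono_of_mono_fac (B.factorThru_arrow _ hu)
  refine euler_le_of_suppIn t (finBdd_of_twistSub_le h hD hV hA) (finBdd_of_twistSub_le h hD hV' hB)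
    (S := S ∪ T) (Crv77.suppIn_cokernel t fun x hx b => ?_) (hS.union hT)
    (fun x hx => hx.elim (hcl x) (hTcl x))
  obtain ⟨v, hv⟩ := surjective_of_suppIn_cokernel u hTsupp (fun h' => hx (Or.inr h')) (stalkMapM B.arrow x b)
  obtain ⟨c, hc⟩ := surjective_of_suppIn_cokernel (ParSh.twistSub I V).arrow hsupp (fun h' => hx (Or.inl h')) v
  refine ⟨stalkMapM (Subobject.ofLE _ _ hA) x c, injective_stalkMapM_of_mono B.arrow x ?_⟩
  rw [← stalkMapM_comp, B.factorThru_arrow _ hu, stalkMapM_comp, ← stalkMapM_comp _ A.arrow,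
    Subobject.ofLE_arrow, hc, hv]

include h hD in
/-- The quotient structure on the image has parabolic degree at most that of the saturation. -/
theorem parDeg_coinduced_le {E F V V' : X.Modules} (n : ℕ) (hV : FlatMod.IsFinLocFree V)
    (hV' : FlatMod.IsFinLocFree V') (hF : FlatMod.IsFinLocFree F) (hr : rk V = rk V')
    (𝓔 : ParSh.Str E) (h𝓔 : 𝓔.Along I) (𝓕 : ParSh.Str F) (h𝓕 : 𝓕.Along I)
    (φ : E ⟶ F) (hφ : ParSh.IsParHom 𝓔 𝓕 φ)
    (q : E ⟶ V) [Epi q] (u : V ⟶ V') [Mono u] (ι : V' ⟶ F) [Mono ι] (hfac : q ≫ u ≫ ι = φ)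
    (hsat : FlatMod.IsFinLocFree (cokernel ι)) :
    (𝓔.coinduced q).parDeg k X n ≤ (𝓕.induced ι).parDeg k X n := by
  have hbA : (𝓔.coinduced q).bot = ParSh.twistSub I V := by
    change imageSubobject (𝓔.bot.arrow ≫ q) = _
    rw [h𝓔]
    exact imageSubobject_twistSub I q
  have hbB : (𝓕.induced ι).bot = ParSh.twistSub I V' := by
    change (Subobject.pullback ι).obj 𝓕.bot = _
    rw [h𝓕]
    exact pullback_twistSub I (shortExact_cokernel ι) hF hsat
  have e1 := (twistSub_facts h hD hV).2.1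
  have e2 := (twistSub_facts h hD hV').2.1
  rw [hr] at e1
  have hle := sum_le_sum_of_at (𝓔.coinduced q) (𝓕.induced ι) (fun M => (Curv2.euler k X M : ℝ))
    ((Curv2.euler k X V : ℝ) - Curv2.euler k X V') fun a h0 h1 => by
      have hA := (𝓔.coinduced q).bot_le_at a
      have hB := (𝓕.induced ι).bot_le_at a
      rw [hbA] at hA
      rw [hbB] at hB
      have hu : ((𝓕.induced ι).at a).Factors (((𝓔.coinduced q).at a).arrow ≫ u) := by
        rw [coinduced_at, induced_at]
        have hz : (imageSubobject ((𝓔.at a).arrow ≫ q)).arrow ≫ u ≫ ι ≫ cokernel.π (𝓕.at a).arrow = 0 := by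
          rw [← cancel_epi (factorThruImageSubobject ((𝓔.at a).arrow ≫ q)), imageSubobject_arrow_comp_assoc,
            Category.assoc, reassoc_of% hfac, comp_zero, ← Category.assoc,
            ← Subobject.factorThru_arrow _ _ (hφ a h0 h1), Category.assoc, cokernel.condition, comp_zero]
        exact factors_of_eq ((Subobject.isPullback ι (𝓕.at a)).lift
          (Abelian.monoLift (𝓕.at a).arrow _ hz) _
          ((Abelian.monoLift_comp _ _ _).trans (Category.assoc _ _ _).symm)) (IsPullback.lift_snd _ _ _ _)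
      have key : (Curv2.euler k X ((𝓔.coinduced q).at a : X.Modules) : ℝ) ≤
          (Curv2.euler k X ((𝓕.induced ι).at a : X.Modules) : ℝ) := by
        exact_mod_cast euler_le_of_map h hD hV hV' u hr hA hB hu
      have c1 : (Curv2.euler k X V : ℝ) - Curv2.euler k X ((𝓔.coinduced q).bot : X.Modules) =
          (Curv2.euler k X V' : ℝ) - Curv2.euler k X ((𝓕.induced ι).bot : X.Modules) := by
        rw [hbA, hbB]
        exact_mod_cast e1.trans e2.symm
      linarith
  simp only [ParSh.Str.parDeg, ParSh.Str.parWt, Curv2.deg]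
  push_cast
  linarith

theorem weight_add (w a b c d : ℝ) : w * (a - b) + w * (c - d) = w * ((a + c) - (b + d)) := by ring

include h hD in
/-- Parabolic degree is additive on extensions of bundles. -/
theorem parDeg_add {F E G : X.Modules} (hF : FlatMod.IsFinLocFree F) (hE : FlatMod.IsFinLocFree E)
    (hG : FlatMod.IsFinLocFree G) (i : F ⟶ E) (p : E ⟶ G) [Epi p] (w : i ≫ p = 0)
    (hS : (ShortComplex.mk i p w).ShortExact) (𝓔 : ParSh.Str E) (h𝓔 : 𝓔.Along I) (a b : ℕ) :
    (𝓔.induced i).parDeg k X a + (𝓔.coinduced p).parDeg k X b = 𝓔.parDeg k X (a + b) := by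
  have hy : ∀ j : Fin (𝓔.l + 2), (Curv2.euler k X ((𝓔.induced i).pieceX j : X.Modules) : ℝ) +
      Curv2.euler k X ((𝓔.coinduced p).pieceX j : X.Modules) = Curv2.euler k X (𝓔.pieceX j : X.Modules) := by
    intro j
    have hb := 𝓔.bot_le_pieceX j
    rw [h𝓔] at hb
    have hbP : ParSh.twistSub I F ≤ (Subobject.pullback i).obj (𝓔.pieceX j) :=
      le_trans (twistSub_le_pullback I i) ((Subobject.pullback i).monotone hb)
    have hbQ : ParSh.twistSub I G ≤ imageSubobject ((𝓔.pieceX j).arrow ≫ p) := by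
      rw [← imageSubobject_twistSub I p, ← Subobject.ofLE_arrow hb, Category.assoc]
      exact imageSubobject_comp_le _ _
    obtain ⟨w', hT⟩ := exists_shortExact_at w hS (𝓔.pieceX j)
    have e := Crv77.euler_add (k := k) hT (finBdd_of_twistSub_le h hD hF hbP)
      (finBdd_of_twistSub_le h hD hE hb) (finBdd_of_twistSub_le h hD hG hbQ)
    rw [induced_pieceX', coinduced_pieceX]
    exact_mod_cast e.symm
  have hcur := h.curveCoh
  have hχ := hcur.euler_add hS (isCoh_of_isFinLocFree hF) (isCoh_of_isFinLocFree hE)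
  dsimp only at hχ
  have hsum : (𝓔.induced i).parWt k X + (𝓔.coinduced p).parWt k X = 𝓔.parWt k X := by
    unfold ParSh.Str.parWt
    change ∑ j : Fin (𝓔.l + 1), 𝓔.wt j * _ + ∑ j : Fin (𝓔.l + 1), 𝓔.wt j * _ = _
    rw [← Finset.sum_add_distrib]
    refine Finset.sum_congr rfl fun j _ => ?_
    have e1 := hy j.castSucc
    have e2 := hy j.succ
    erw [ParSh.Str.pieceX_castSucc, ParSh.Str.pieceX_castSucc, ParSh.Str.pieceX_castSucc] at e1
    exact (weight_add _ _ _ _ _).trans (congrArg₂ (fun x y : ℝ => 𝓔.wt j * (x - y)) e1 e2)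
  simp only [ParSh.Str.parDeg, Curv2.deg, hχ]
  push_cast
  linarith

include h hD in
/-- Stable parabolic bundles have no parabolic maps from a quotient to the kernel. -/
theorem parHom_eq_zero {F F' F'' : X.Modules} (r : ℕ) (hF : FlatMod.IsFinLocFreeOfRank r F)
    (𝓕 : ParSh.Str F) (h𝓕 : 𝓕.Along I) (hst : ParSh.IsParStable k X 𝓕 r)
    (i : F' ⟶ F) (p : F ⟶ F'') [Epi p] {𝓕' : ParSh.Str F'} {𝓕'' : ParSh.Str F''}
    (hext : ParSh.IsParExt i p 𝓕' 𝓕 𝓕'') (φ : F'' ⟶ F') (hφ : ParSh.IsParHom 𝓕'' 𝓕' φ) : φ = 0 := by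
  obtain ⟨w, hS, rfl, rfl⟩ := hext
  haveI : Mono i := hS.mono_f
  by_contra hne
  let ψ := p ≫ φ ≫ i
  have hψp : ParSh.IsParHom 𝓕 𝓕 ψ :=
    isParHom_comp (isParHom_coinduced 𝓕 p) (isParHom_comp hφ (isParHom_induced 𝓕 i))
  have hψ0 : ψ ≠ 0 := fun hz => hne ((cancel_mono i).1
    (((cancel_epi p).1 (hz.trans comp_zero.symm)).trans zero_comp.symm))
  have hψnm : ¬ Mono ψ := fun hm => hne <| by
    haveI : Mono (p ≫ φ ≫ i) := hm
    haveI : Mono p := mono_of_mono p (φ ≫ i)
    have hi0 : i = 0 := (cancel_mono p).1 (w.trans zero_comp.symm)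
    exact (cancel_mono i).1 (by rw [hi0, comp_zero, comp_zero])
  have hFl := isFinLocFree_of_rank hF
  have hFc := isCoh_of_isFinLocFree hFl
  have hKl := h.isFinLocFree_of_mono (kernel.ι ψ) (h.isCoh_kernel ψ hFc hFc) hFl
  have hIc : Coh.IsCoh (Abelian.image ψ) := h.isCoh_kernel _ hFc (h.isCoh_cokernel ψ hFc hFc)
  have hVl := h.isFinLocFree_of_mono (Abelian.image.ι ψ) hIc hFl
  obtain ⟨w', hT⟩ := Cur.shortExact_kerImage ψ
  obtain ⟨V', ι, u, hι, hu, huι, hV'l, hsat, hrV, -⟩ := h.exists_saturation (Abelian.image.ι ψ) hIc hFl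
  have hrk := h.rk_add hT hFc
  dsimp only at hrk
  have hKpos : 0 < rk (kernel ψ) := Nat.pos_of_ne_zero fun h0 => hψnm
    (Preadditive.mono_of_kernel_zero ((h.isZero_of_rk_eq_zero hKl h0).eq_of_src (kernel.ι ψ) 0))
  have hVpos : 0 < rk (Abelian.image ψ) := Nat.pos_of_ne_zero fun h0 => hψ0 (by
    rw [← Abelian.image.fac ψ,
      (h.isZero_of_rk_eq_zero hVl h0).eq_of_tgt (Abelian.factorThruImage ψ) 0, zero_comp])
  have hr : r = rk (kernel ψ) + rk (Abelian.image ψ) := (rk_eq_of_isFinLocFreeOfRank hF).symm.trans hrk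
  have s1 := hst _ (rk (kernel ψ)) (kernel.ι ψ) inferInstance hKpos (by omega) (isFinLocFreeOfRank_rk hKl)
  have s2 := hst V' (rk V') ι hι (by omega) (by omega) (isFinLocFreeOfRank_rk hV'l)
  have ha := parDeg_add h hD hKl hFl hVl (kernel.ι ψ) (Abelian.factorThruImage ψ) w' hT 𝓕 h𝓕
    (rk (kernel ψ)) (rk (Abelian.image ψ))
  rw [← hr] at ha
  have hle := parDeg_coinduced_le h hD (rk (Abelian.image ψ)) hVl hV'l hFl hrV.symm 𝓕 h𝓕 𝓕 h𝓕 ψ hψp
    (Abelian.factorThruImage ψ) u ι (by rw [huι, Abelian.image.fac]) hsat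
  rw [hrV] at s2
  have hr' : (r : ℝ) = (rk (kernel ψ) : ℝ) + (rk (Abelian.image ψ) : ℝ) := by exact_mod_cast hr
  have hrpos : (0 : ℝ) ≤ r := Nat.cast_nonneg r
  have := mul_le_mul_of_nonneg_right hle hrpos
  have e1 := congrArg (fun t => t * (r : ℝ)) ha
  have e2 := congrArg (fun t => 𝓕.parDeg k X r * t) hr'
  simp only [add_mul, mul_add] at e1 e2
  linarith

end Curve

end Groth.Agent.H98Par

end
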