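import Groth.Agent.H98Par.Induced

/-! Additivity of the parabolic Hilbert function on parabolic extensions. -/

set_option autoImplicit false
set_option maxHeartbeats 400000
set_option backward.isDefEq.respectTransparency.types false

noncomputable section

universe u

open CategoryTheory Limits AlgebraicGeometry

namespace Groth.Agent.H98Par

variable {X : Scheme.{u}} {F E G : X.Modules} {i : F ⟶ E} {p : E ⟶ G}

theorem weighted_add (w a b c d : ℝ) : w * (a - b) + w * (c - d) = w * ((a + c) - (b + d)) := by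
  ring

theorem exists_shortExact_piece (w : i ≫ p = 0) (hS : (ShortComplex.mk i p w).ShortExact) (y : Subobject E) :
    ∃ (h : Subobject.pullbackπ i y ≫ factorThruImageSubobject (y.arrow ≫ p) = 0),
      (ShortComplex.mk (Subobject.pullbackπ i y) (factorThruImageSubobject (y.arrow ≫ p)) h).ShortExact := by
  have sq := Subobject.isPullback i y
  haveI : Mono i := hS.mono_f
  haveI : Mono (Subobject.pullbackπ i y) := PullbackCone.mono_fst_of_is_pullback_of_mono sq.isLimit
  have h : Subobject.pullbackπ i y ≫ factorThruImageSubobject (y.arrow ≫ p) = 0 := by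
    rw [← cancel_mono (imageSubobject (y.arrow ≫ p)).arrow, Category.assoc, imageSubobject_arrow_comp,
      zero_comp, reassoc_of% sq.w, w, comp_zero]
  refine ⟨h, ShortComplex.ShortExact.mk' (ShortComplex.exact_of_f_is_kernel _
    (KernelFork.IsLimit.ofι' _ h fun {T} x hx => ?_)) inferInstance inferInstance⟩
  have hx' : (x ≫ y.arrow) ≫ p = 0 := by
    rw [Category.assoc, ← imageSubobject_arrow_comp (y.arrow ≫ p), reassoc_of% hx, zero_comp]
  exact ⟨sq.lift x (hS.exact.lift (x ≫ y.arrow) hx') (hS.exact.lift_f _ _).symm, sq.lift_fst _ _ _⟩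

variable {k : Type u} [Field k] [X.Over (Spec (CommRingCat.of k))]
  [IsProper (X ↘ (Spec (CommRingCat.of k)))] {L : X.Modules}

theorem euler_twist_piece (hL : PicF.IsInvertible L) (hF : Coh.IsCoh F) (hE : Coh.IsCoh E)
    (w : i ≫ p = 0) (hS : (ShortComplex.mk i p w).ShortExact) (y : Subobject E)
    (hy : Coh.IsCoh (y : X.Modules)) (m : ℕ) :
    (Curv2.euler k X (ShStab.twist X L ((Subobject.pullback i).obj y : X.Modules) m) : ℝ) +
        (Curv2.euler k X (ShStab.twist X L (imageSubobject (y.arrow ≫ p) : X.Modules) m) : ℝ) =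
      (Curv2.euler k X (ShStab.twist X L (y : X.Modules) m) : ℝ) := by
  have := Crv77.isNoetherian_of_proper k X
  obtain ⟨h, hT⟩ := exists_shortExact_piece w hS y
  have h1 := isCoh_pullback_subobject i hF hE y hy
  have h3 := Crv77.isCoh_of_shortExact hT h1 hy
  have e := congrFun (Snapper75.chi_add k (hL1 hL) hT h1 hy h3) fun _ => m
  rw [Pi.add_apply, chi_eq, chi_eq, chi_eq] at e
  have e' : Curv2.euler k X (ShStab.twist X L (y : X.Modules) m) =
      Curv2.euler k X (ShStab.twist X L ((Subobject.pullback i).obj y : X.Modules) m) +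
        Curv2.euler k X (ShStab.twist X L (imageSubobject (y.arrow ≫ p) : X.Modules) m) := by
    exact_mod_cast e
  rw [e', Int.cast_add]

theorem parHilb_add [Epi p] (hL : PicF.IsInvertible L) (hF : Coh.IsCoh F) (hE : Coh.IsCoh E)
    (𝓔 : ParSh.Str E) (w : i ≫ p = 0) (hS : (ShortComplex.mk i p w).ShortExact)
    (hcoh : ∀ j, Coh.IsCoh ((𝓔.piece j : Subobject E) : X.Modules))
    (hbot : Coh.IsCoh ((𝓔.bot : Subobject E) : X.Modules)) (m : ℕ) :
    (𝓔.induced i).parHilb k X L m + (𝓔.coinduced p).parHilb k X L m = 𝓔.parHilb k X L m := by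
  let χ : X.Modules → ℝ := fun M => (Curv2.euler k X (ShStab.twist X L M m) : ℝ)
  have hX : ∀ j : Fin (𝓔.l + 2), χ ((𝓔.induced i).pieceX j : X.Modules) +
      χ ((𝓔.coinduced p).pieceX j : X.Modules) = χ (𝓔.pieceX j : X.Modules) := fun j => by
    induction j using Fin.lastCases with
    | last =>
      exact (congrArg₂ (fun (A : Subobject F) (B : Subobject G) => χ (A : X.Modules) + χ (B : X.Modules))
        (𝓔.induced i).pieceX_last (𝓔.coinduced p).pieceX_last).trans
        ((euler_twist_piece hL hF hE w hS _ hbot m).trans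
          (congrArg (fun A : Subobject E => χ (A : X.Modules)) 𝓔.pieceX_last.symm))
    | cast j =>
      exact (congrArg₂ (fun (A : Subobject F) (B : Subobject G) => χ (A : X.Modules) + χ (B : X.Modules))
        ((𝓔.induced i).pieceX_castSucc j) ((𝓔.coinduced p).pieceX_castSucc j)).trans
        ((euler_twist_piece hL hF hE w hS _ (hcoh j) m).trans
          (congrArg (fun A : Subobject E => χ (A : X.Modules)) (𝓔.pieceX_castSucc j).symm))
  have hp : ∀ (H : X.Modules) (𝓗 : ParSh.Str H), 𝓗.parHilb k X L m =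
      (Curv2.euler k X (ShStab.twist X L (𝓗.pieceX (Fin.last (𝓗.l + 1)) : X.Modules) m) : ℝ) +
      ∑ j : Fin (𝓗.l + 1), 𝓗.wt j *
        ((Curv2.euler k X (ShStab.twist X L (𝓗.pieceX j.castSucc : X.Modules) m) : ℝ) -
          (Curv2.euler k X (ShStab.twist X L (𝓗.pieceX j.succ : X.Modules) m) : ℝ)) := fun H 𝓗 => by
    rw [ParSh.Str.parHilb, ParSh.Str.parSum, 𝓗.pieceX_last]
    refine congrArg₂ (· + ·) rfl (Finset.sum_congr rfl fun j _ => ?_)
    rw [𝓗.pieceX_castSucc]
  rw [hp, hp, hp]
  change _ + ∑ j : Fin (𝓔.l + 1), 𝓔.wt j * _ + (_ + ∑ j : Fin (𝓔.l + 1), 𝓔.wt j * _) = _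
  rw [add_add_add_comm, ← Finset.sum_add_distrib]
  refine congrArg₂ (· + ·) (hX _) (Finset.sum_congr rfl fun j _ => ?_)
  exact (weighted_add _ _ _ _ _).trans
    (congrArg₂ (fun a b : ℝ => 𝓔.wt j * (a - b)) (hX j.castSucc) (hX j.succ))

end Groth.Agent.H98Par

end
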