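import Groth.Agent.H98Par.Supp
import Groth.Agent.H98GP.Basic

/-! Finite cohomology for arbitrary subobjects between a bundle and its twist. -/

set_option autoImplicit false
set_option maxHeartbeats 400000
set_option linter.style.haveILetI false
set_option backward.isDefEq.respectTransparency.types false

noncomputable section

universe u

open CategoryTheory Limits AlgebraicGeometry
open Groth.Agent.QC70

namespace Groth.Agent.H98Par

variable {X : Scheme.{u}}

theorem shortExact_cokernel {M N : X.Modules} (φ : M ⟶ N) [Mono φ] :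
    (ShortComplex.mk φ (cokernel.π φ) (cokernel.condition φ)).ShortExact :=
  { exact := ShortComplex.exact_of_g_is_cokernel _ (cokernelIsCokernel φ) }

theorem surjective_of_suppIn_cokernel {M N : X.Modules} (φ : M ⟶ N) [Mono φ] {S : Set X}
    (h : Crv77.SuppIn (cokernel φ) S) {x : X} (hx : x ∉ S) : Function.Surjective (stalkMapM φ x) :=
  fun e => by
    haveI := h x hx
    exact stalkMapM_exact _ (shortExact_cokernel φ).exact x e (Subsingleton.elim _ _)

theorem suppIn_of_mono {M N : X.Modules} (φ : M ⟶ N) [Mono φ] {S : Set X} (h : Crv77.SuppIn N S) :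
    Crv77.SuppIn M S := fun x hx =>
  haveI := h x hx
  (injective_stalkMapM_of_mono φ x).subsingleton

theorem suppIn_of_epi {M N : X.Modules} (φ : M ⟶ N) [Epi φ] {S : Set X} (h : Crv77.SuppIn M S) :
    Crv77.SuppIn N S := fun x hx =>
  haveI := h x hx
  (surjective_stalkMapM_of_epi φ x).subsingleton

variable {k : Type u} [Field k] [X.Over (Spec (CommRingCat.of k))]

theorem finite_of_exact {U V W : Type*} [AddCommGroup U] [Module k U] [AddCommGroup V] [Module k V]
    [AddCommGroup W] [Module k W] [Module.Finite k U] [Module.Finite k W] {f : U →ₗ[k] V} {g : V →ₗ[k] W}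
    (h : Function.Exact f g) : Module.Finite k V := by
  refine Module.Finite.of_exact (f := f) (g := g.rangeRestrict) ?_ g.surjective_rangeRestrict
  rw [LinearMap.exact_iff, LinearMap.ker_rangeRestrict]
  exact LinearMap.exact_iff.1 h

theorem finBdd_middle {S : ShortComplex X.Modules} (hS : S.ShortExact) {d : ℕ}
    (h₁ : Crv77.FinBdd k S.X₁ d) (h₃ : Crv77.FinBdd k S.X₃ d) : Crv77.FinBdd k S.X₂ d := by
  refine ⟨fun n => ?_, fun n hn => ?_⟩
  · have := h₁.finite n; have := h₃.finite n
    exact finite_of_exact (Crv77.exact_f_g k hS n)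
  · have := h₁.vanish n hn; have := h₃.vanish n hn
    refine subsingleton_of_forall_eq 0 fun e => ?_
    obtain ⟨x, rfl⟩ := (Crv77.exact_f_g k hS n e).1 (Subsingleton.elim _ _)
    rw [Subsingleton.elim x 0, map_zero]

theorem finBdd_right {S : ShortComplex X.Modules} (hS : S.ShortExact) {d : ℕ}
    (h₁ : Crv77.FinBdd k S.X₁ d) (h₂ : Crv77.FinBdd k S.X₂ d) : Crv77.FinBdd k S.X₃ d := by
  refine ⟨fun n => ?_, fun n hn => ?_⟩
  · have := h₂.finite n; have := h₁.finite (n + 1)
    exact finite_of_exact (Crv77.exact_g_δ k hS n)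
  · have := h₂.vanish n hn; have := h₁.vanish (n + 1) (by omega)
    refine subsingleton_of_forall_eq 0 fun e => ?_
    obtain ⟨x, rfl⟩ := (Crv77.exact_g_δ k hS n e).1 (Subsingleton.elim _ _)
    rw [Subsingleton.elim x 0, map_zero]

/-- A subobject of a finite module with finite support is finite, with no higher cohomology. -/
theorem finBdd_of_mono_suppIn {M N : X.Modules} (φ : M ⟶ N) [Mono φ] {S : Set X} (hN : Crv77.SuppIn N S)
    (hS : S.Finite) (hcl : ∀ x ∈ S, IsClosed ({x} : Set X)) [Module.Finite k (Coh.HH X N 0)] :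
    Crv77.FinBdd k M 1 := by
  have hM := suppIn_of_mono φ hN
  refine ⟨fun n => ?_, fun n hn => ?_⟩
  · cases n with
    | zero =>
      exact Module.Finite.of_injective (Crv77.hmap k φ 0)
        (Crv77.injective_f_zero k (shortExact_cokernel φ))
    | succ n =>
      have := hM.subsingleton_HH hS hcl n
      infer_instance
  · obtain ⟨m, rfl⟩ : ∃ m, n = m + 1 := ⟨n - 1, by omega⟩
    exact hM.subsingleton_HH hS hcl m

/-- A monomorphism whose cokernel has finite support does not decrease the Euler characteristic. -/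
theorem euler_le_of_suppIn {M N : X.Modules} (φ : M ⟶ N) [Mono φ] (hM : Crv77.FinBdd k M 2)
    (hN : Crv77.FinBdd k N 2) {S : Set X} (hsupp : Crv77.SuppIn (cokernel φ) S)
    (hS : S.Finite) (hcl : ∀ x ∈ S, IsClosed ({x} : Set X)) :
    Curv2.euler k X M ≤ Curv2.euler k X N := by
  have hc := finBdd_right (shortExact_cokernel φ) hM hN
  have hc1 : Crv77.FinBdd k (cokernel φ) 1 := ⟨hc.finite, fun n hn => by
    obtain ⟨m, rfl⟩ : ∃ m, n = m + 1 := ⟨n - 1, by omega⟩
    exact hsupp.subsingleton_HH hS hcl m⟩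
  have h := Crv77.euler_add (shortExact_cokernel φ) hM hN hc
  dsimp only at h
  rw [h, hc1.euler_eq, Finset.sum_range_one, pow_zero, one_mul]
  omega

/-- Subobjects above a subobject with coherent finitely supported quotient have finite cohomology. -/
theorem finBdd_of_le {E : X.Modules} (hX : Crv77.CurveCoh k X) {y₀ y : Subobject E} (hle : y₀ ≤ y)
    (h₀ : Coh.IsCoh (y₀ : X.Modules)) (hE : Coh.IsCoh E) {S : Set X}
    (hsupp : Crv77.SuppIn (cokernel y₀.arrow) S) (hS : S.Finite)
    (hcl : ∀ x ∈ S, IsClosed ({x} : Set X)) : Crv77.FinBdd k (y : X.Modules) 2 := by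
  let f := Subobject.ofLE _ _ hle
  have := hX.finite _ (Crv77.isCoh_cokernel y₀.arrow h₀ hE) 0
  have sq : IsPullback f (𝟙 (y₀ : X.Modules)) y.arrow y₀.arrow :=
    ⟨⟨by simp [f]⟩, ⟨PullbackCone.IsLimit.mk _ (fun s => s.snd)
      (fun s => by rw [← cancel_mono y.arrow, Category.assoc, Subobject.ofLE_arrow, s.condition])
      (fun s => Category.comp_id _)
      (fun s m _ hm => by simpa using hm)⟩⟩
  haveI : Mono (cokernel.map f y₀.arrow (𝟙 _) y.arrow sq.w) :=
    Abelian.mono_cokernel_map_of_isPullback sq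
  exact finBdd_middle (shortExact_cokernel f) (hX.finBdd h₀)
    ((finBdd_of_mono_suppIn (cokernel.map f y₀.arrow (𝟙 _) y.arrow sq.w) hsupp hS hcl).mono
      one_le_two)

theorem surjective_SP_tensorMap (x : X) {E V : X.Modules} (q : E ⟶ V) [Epi q] (N : X.Modules) :
    Function.Surjective (stalkMapM (KoszTw.tensorMap q (𝟙 N)) x) := by
  intro v
  haveI : Epi ((DCK91.SP x).map q) := inferInstance
  obtain ⟨z, rfl⟩ := ((ConcreteCategory.isIso_iff_bijective (DCK91.tensorStalk x V N)).1 inferInstance).2 v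
  obtain ⟨w, rfl⟩ := LinearMap.rTensor_surjective ((DCK91.SP x).obj N)
    ((ModuleCat.epi_iff_surjective ((DCK91.SP x).map q)).1 inferInstance) z
  refine ⟨DCK91.tensorStalk x E N w, ?_⟩
  change (DCK91.SP x).map (KoszTw.tensorMap q (𝟙 N)) _ = _
  rw [← KoszTw.tensorBi_map_app]
  exact (ConcreteCategory.congr_hom (DCK91.tensorStalk_left x q N) w).symm

theorem epi_tensorMap_left {E V : X.Modules} (q : E ⟶ V) [Epi q] (N : X.Modules) :
    Epi (KoszTw.tensorMap q (𝟙 N)) :=
  epi_of_surjective_stalkMapM _ fun x => surjective_SP_tensorMap x q N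

end Groth.Agent.H98Par

end
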