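import Groth.Agent.H98Par.Supp
import Groth.Agent.Snapper75.Main
import Groth.Prelude.Def_W4swparbununimodPar

/-! Hilbert polynomials of the pieces of a parabolic structure. -/

set_option autoImplicit false
set_option maxHeartbeats 400000
set_option backward.isDefEq.respectTransparency.types false

noncomputable section

universe u

open CategoryTheory Limits AlgebraicGeometry Polynomial

namespace Groth.Agent.H98Par

variable (k : Type u) [Field k] {X : Scheme.{u}} [X.Over (Spec (CommRingCat.of k))]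
  [IsProper (X ↘ (Spec (CommRingCat.of k)))] {L : X.Modules}

theorem eq_of_eval_nat {R : Type*} [CommRing R] [IsDomain R] [CharZero R] {P Q : R[X]}
    (h : ∀ m : ℕ, P.eval (m : R) = Q.eval (m : R)) : P = Q :=
  eq_of_infinite_eval_eq P Q (Set.Infinite.mono (by rintro _ ⟨m, rfl⟩; exact h m)
    (Set.infinite_range_of_injective Nat.cast_injective))

omit [IsProper (X ↘ (Spec (CommRingCat.of k)))] in
theorem chi_eq (E : X.Modules) (n : Fin 1 → ℕ) :
    Snapper75.chi k ![L] E n = (Curv2.euler k X (ShStab.twist X L E (n 0)) : ℚ) := rfl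

variable {k}

omit [IsProper (X ↘ (Spec (CommRingCat.of k)))] in
theorem hilb_unique {E : X.Modules} {P Q : ℚ[X]} (hP : ShStab.IsHilbPoly k X L E P)
    (hQ : ShStab.IsHilbPoly k X L E Q) : P = Q :=
  eq_of_eval_nat fun m => (hP m).symm.trans (hQ m)

variable (hL : PicF.IsInvertible L)
include hL

theorem hL1 : ∀ i, PicF.IsInvertible (![L] i) := fun i => by
  obtain rfl : i = 0 := Subsingleton.elim _ _
  exact hL

theorem hilb_add {S : ShortComplex X.Modules} (hS : S.ShortExact)
    (h₁ : Coh.IsCoh S.X₁) (h₂ : Coh.IsCoh S.X₂) (h₃ : Coh.IsCoh S.X₃)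
    {P Q : ℚ[X]} (hP : ShStab.IsHilbPoly k X L S.X₁ P) (hQ : ShStab.IsHilbPoly k X L S.X₃ Q) :
    ShStab.IsHilbPoly k X L S.X₂ (P + Q) := fun m => by
  have h := congrFun (Snapper75.chi_add k (hL1 hL) hS h₁ h₂ h₃) fun _ => m
  rw [Pi.add_apply, chi_eq, chi_eq, chi_eq] at h
  rw [h, eval_add, hP m, hQ m]

theorem exists_hilb {E : X.Modules} (hE : Coh.IsCoh E) {d : ℕ}
    (hd : topologicalKrullDim (CohB1.support E) < (d : WithBot ℕ∞)) :
    ∃ P : ℚ[X], ShStab.IsHilbPoly k X L E P ∧ ∀ n, d ≤ n → P.coeff n = 0 := by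
  have h := Snapper75.chi_mem_polySub k (hL1 hL) d E hE hd
  have key : ∀ f ∈ Snapper75.polySub 1 d,
      ∃ p : ℚ[X], (∀ m : ℕ, f (fun _ => m) = p.eval (m : ℚ)) ∧ ∀ n, d ≤ n → p.coeff n = 0 := by
    intro f hf
    induction hf using Submodule.span_induction with
    | mem g hg =>
      obtain ⟨m, hm, rfl⟩ := hg
      refine ⟨Polynomial.X ^ m 0, fun a => by simp [Snapper75.monoFn], fun n hn => ?_⟩
      have : m 0 < d := by simpa using hm
      rw [coeff_X_pow, if_neg (by omega)]
    | zero => exact ⟨0, fun _ => by simp, fun _ _ => by simp⟩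
    | add g g' _ _ h h' =>
      obtain ⟨p, hp, hp'⟩ := h
      obtain ⟨q, hq, hq'⟩ := h'
      exact ⟨p + q, fun a => by simp [hp a, hq a], fun n hn => by simp [hp' n hn, hq' n hn]⟩
    | smul c g _ h =>
      obtain ⟨p, hp, hp'⟩ := h
      exact ⟨c • p, fun a => by simp [hp a], fun n hn => by simp [hp' n hn]⟩
  obtain ⟨p, hp, hp'⟩ := key _ h
  exact ⟨p, fun m => (chi_eq k E fun _ => m).symm.trans (hp m), hp'⟩

theorem coeff_eq_zero_of_dim {E : X.Modules} (hE : Coh.IsCoh E) {d : ℕ}
    (hd : topologicalKrullDim (CohB1.support E) < (d : WithBot ℕ∞))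
    {P : ℚ[X]} (hP : ShStab.IsHilbPoly k X L E P) {n : ℕ} (hn : d ≤ n) : P.coeff n = 0 := by
  obtain ⟨Q, hQ, hQ'⟩ := exists_hilb (k := k) hL hE hd
  rw [hilb_unique hP hQ]
  exact hQ' n hn

omit hL in
theorem shortExact_subobject {E : X.Modules} (F : Subobject E) :
    (ShortComplex.mk F.arrow (cokernel.π F.arrow) (cokernel.condition F.arrow)).ShortExact :=
  { exact := ShortComplex.exact_of_g_is_cokernel _ (cokernelIsCokernel F.arrow)
    mono_f := inferInstance
    epi_g := inferInstance }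

omit hL [IsProper (X ↘ (Spec (CommRingCat.of k)))] in
theorem isCoh_coker {E : X.Modules} (hE : Coh.IsCoh E) (F : Subobject E)
    (hF : Coh.IsCoh (F : X.Modules)) : Coh.IsCoh (cokernel F.arrow) :=
  Crv77.isCoh_cokernel _ hF hE

theorem hilb_piece_eq {E : X.Modules} (hE : Coh.IsCoh E) {F : Subobject E}
    (hF : Coh.IsCoh (F : X.Modules)) {P PF H : ℚ[X]} (hP : ShStab.IsHilbPoly k X L E P)
    (hPF : ShStab.IsHilbPoly k X L (F : X.Modules) PF)
    (hH : ShStab.IsHilbPoly k X L (cokernel F.arrow) H) : P = PF + H :=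
  hilb_unique hP (hilb_add hL (shortExact_subobject F) hF hE (isCoh_coker hE F hF) hPF hH)

theorem hilb_coker_of_piece {E : X.Modules} (hE : Coh.IsCoh E) {F : Subobject E}
    (hF : Coh.IsCoh (F : X.Modules)) {P H : ℚ[X]} (hP : ShStab.IsHilbPoly k X L E P)
    (hH : ShStab.IsHilbPoly k X L (cokernel F.arrow) H) :
    ShStab.IsHilbPoly k X L (F : X.Modules) (P - H) := fun m => by
  have h := congrFun (Snapper75.chi_add k (hL1 hL) (shortExact_subobject F) hF hE
    (isCoh_coker hE F hF)) fun _ => m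
  rw [Pi.add_apply, chi_eq, chi_eq, chi_eq] at h
  rw [eval_sub, ← hP m, ← hH m]
  exact eq_sub_of_add_eq h.symm

theorem hilb_coker_top {E : X.Modules} {H : ℚ[X]}
    (hH : ShStab.IsHilbPoly k X L (cokernel (⊤ : Subobject E).arrow) H) : H = 0 := by
  refine hilb_unique hH fun m => ?_
  have h : IsZero (cokernel (⊤ : Subobject E).arrow) := isZero_cokernel_of_epi _
  have := congrFun (Snapper75.chi_eq_zero_of_isZero k (hL1 hL) h) fun _ => m
  rw [chi_eq] at this
  simpa using this

omit hL in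
theorem dim_support_coker {E : X.Modules} (I : X.IdealSheafData) (F : Subobject E)
    (hle : ParSh.twistSub I E ≤ F) {d : ℕ}
    (hd : topologicalKrullDim ↥(CohB1.support E ∩ (I.support : Set X)) < (d : WithBot ℕ∞)) :
    topologicalKrullDim (CohB1.support (cokernel F.arrow)) < (d : WithBot ℕ∞) := by
  refine lt_of_le_of_lt ?_ hd
  have hsub : CohB1.support (cokernel F.arrow) ⊆ CohB1.support E ∩ (I.support : Set X) := fun x hx =>
    ⟨by_contra fun h => hx (suppIn_cokernel_support E F x h),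
     by_contra fun h => hx (suppIn_cokernel_of_twistSub_le I E F hle x h)⟩
  exact Topology.IsInducing.topologicalKrullDim_le
    (Topology.IsEmbedding.inclusion hsub).isInducing

end Groth.Agent.H98Par

end
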