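import Groth.Agent.H98Par.Main
import Mathlib.CategoryTheory.Abelian.CommSq

/-! Induced parabolic structures. -/

set_option autoImplicit false
set_option maxHeartbeats 400000
set_option backward.isDefEq.respectTransparency.types false

noncomputable section

universe u

open CategoryTheory Limits AlgebraicGeometry Polynomial
open W4swparbununimod (rpoly parPoly)

namespace Groth.Agent.H98Par

variable {X : Scheme.{u}} {E W : X.Modules} (ι : W ⟶ E)

theorem mono_coker_pullback (y : Subobject E) :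
    Mono (cokernel.map ((Subobject.pullback ι).obj y).arrow y.arrow (Subobject.pullbackπ ι y) ι
      (Subobject.isPullback ι y).w.symm) :=
  Abelian.mono_cokernel_map_of_isPullback (Subobject.isPullback ι y).flip

theorem nonempty_iso_kernel (y : Subobject E) :
    Nonempty (kernel (ι ≫ cokernel.π y.arrow) ≅ ((Subobject.pullback ι).obj y : X.Modules)) := by
  have sq := Subobject.isPullback ι y
  have h1 : ((Subobject.pullback ι).obj y).arrow ≫ ι ≫ cokernel.π y.arrow = 0 := by
    rw [← reassoc_of% sq.w, cokernel.condition, Limits.comp_zero]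
  let b : kernel (ι ≫ cokernel.π y.arrow) ⟶ ((Subobject.pullback ι).obj y : X.Modules) :=
    sq.lift (Abelian.monoLift y.arrow (kernel.ι _ ≫ ι) (by rw [Category.assoc, kernel.condition]))
      (kernel.ι _) (Abelian.monoLift_comp _ _ _)
  have hb : b ≫ ((Subobject.pullback ι).obj y).arrow = kernel.ι _ := sq.lift_snd _ _ _
  refine ⟨⟨b, kernel.lift _ ((Subobject.pullback ι).obj y).arrow h1, ?_, ?_⟩⟩
  · rw [← cancel_mono (kernel.ι _), Category.assoc, kernel.lift_ι, hb, Category.id_comp]
  · rw [← cancel_mono ((Subobject.pullback ι).obj y).arrow, Category.assoc, hb, kernel.lift_ι,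
      Category.id_comp]

theorem isCoh_pullback_subobject [IsLocallyNoetherian X] (hW : Coh.IsCoh W) (hE : Coh.IsCoh E)
    (y : Subobject E) (hy : Coh.IsCoh (y : X.Modules)) :
    Coh.IsCoh ((Subobject.pullback ι).obj y : X.Modules) := by
  obtain ⟨e⟩ := nonempty_iso_kernel ι y
  exact Crv77.isCoh_of_iso e (QC70.isCoh_kernel _ hW (Crv77.isCoh_cokernel _ hy hE).1)

theorem support_coker_pullback_subset (y : Subobject E) :
    CohB1.support (cokernel ((Subobject.pullback ι).obj y).arrow) ⊆
      CohB1.support (cokernel y.arrow) := fun x hx h => by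
  haveI := mono_coker_pullback ι y
  haveI := h
  exact hx (QC70.injective_stalkMapM_of_mono (cokernel.map ((Subobject.pullback ι).obj y).arrow y.arrow
    (Subobject.pullbackπ ι y) ι (Subobject.isPullback ι y).w.symm) x).subsingleton

theorem induced_pieceX (𝓔 : ParSh.Str E) (j : Fin (𝓔.l + 2)) :
    (𝓔.induced ι).pieceX j = (Subobject.pullback ι).obj (𝓔.pieceX j) := by
  induction j using Fin.lastCases with
  | last => rw [ParSh.Str.pieceX_last]; exact (𝓔.induced ι).pieceX_last
  | cast j => rw [ParSh.Str.pieceX_castSucc]; exact (𝓔.induced ι).pieceX_castSucc j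

theorem induced_wtX (𝓔 : ParSh.Str E) (j : Fin (𝓔.l + 2)) : (𝓔.induced ι).wtX j = 𝓔.wtX j := rfl

variable {k : Type u} [Field k] [X.Over (Spec (CommRingCat.of k))]
  [IsProper (X ↘ (Spec (CommRingCat.of k)))] {L : X.Modules}

omit [IsProper (X ↘ (Spec (CommRingCat.of k)))] in
theorem isCoh_induced [IsLocallyNoetherian X] (hE : Coh.IsCoh E) (hW : Coh.IsCoh W) (𝓔 : ParSh.Str E)
    (hcoh : ∀ j, Coh.IsCoh ((𝓔.pieceX j : Subobject E) : X.Modules)) (j : Fin (𝓔.l + 2)) :
    Coh.IsCoh (((𝓔.induced ι).pieceX j : Subobject W) : X.Modules) := by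
  rw [induced_pieceX ι 𝓔 j]
  exact isCoh_pullback_subobject ι hW hE _ (hcoh j)

omit [IsProper (X ↘ (Spec (CommRingCat.of k)))] in
theorem dim_support_induced {I : X.IdealSheafData} {𝓔 : ParSh.Str E} (h𝓔 : 𝓔.Along I) {d : ℕ}
    (hsupp : topologicalKrullDim ↥(CohB1.support E ∩ (I.support : Set X)) < (d : WithBot ℕ∞))
    (j : Fin (𝓔.l + 2)) :
    topologicalKrullDim (CohB1.support (cokernel ((𝓔.induced ι).pieceX j).arrow)) < (d : WithBot ℕ∞) := by
  rw [induced_pieceX ι 𝓔 j]
  exact lt_of_le_of_lt (Topology.IsInducing.topologicalKrullDim_le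
    (Topology.IsEmbedding.inclusion (support_coker_pullback_subset ι (𝓔.pieceX j))).isInducing)
    (dim_support_coker I _ (twistSub_le h𝓔 j) hsupp)

/-- The coefficients of the parabolic polynomial of the induced structure in high degrees. -/
theorem coeff_parPoly_induced (hL : PicF.IsInvertible L) (hE : Coh.IsCoh E) (hW : Coh.IsCoh W)
    {I : X.IdealSheafData} (𝓔 : ParSh.Str E) (h𝓔 : 𝓔.Along I)
    (hcoh : ∀ j, Coh.IsCoh ((𝓔.pieceX j : Subobject E) : X.Modules)) {d : ℕ}
    (hsupp : topologicalKrullDim ↥(CohB1.support E ∩ (I.support : Set X)) < (d : WithBot ℕ∞))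
    {Q : ℚ[X]} (hQ : ShStab.IsHilbPoly k X L W Q) {QX : Fin (𝓔.l + 2) → ℚ[X]}
    (hQX : ∀ j, ShStab.IsHilbPoly k X L (((𝓔.induced ι).pieceX j : Subobject W) : X.Modules) (QX j))
    {n : ℕ} (hn : d ≤ n) : (parPoly (𝓔.induced ι) QX).coeff n = (rpoly Q).coeff n := by
  have := Crv77.isNoetherian_of_proper k X
  have hc := isCoh_induced ι hE hW 𝓔 hcoh
  choose H h1 h2 using fun j : Fin (𝓔.l + 2) => exists_hilb (k := k) hL
    (isCoh_coker hW _ (hc j)) (dim_support_induced ι h𝓔 hsupp j)
  rw [parPoly_eq hL hW (𝓔.induced ι) hc hQ hQX h1, coeff_sub, finsetSum_coeff,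
    Finset.sum_eq_zero fun j _ => by rw [coeff_C_mul, Polynomial.coeff_map, h2 j.succ n hn]; simp,
    sub_zero]

end Groth.Agent.H98Par

end
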