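import Groth.Agent.H98Par.Red

/-! Kernels and images of parabolic maps between semistable parabolic sheaves of equal reduced polynomial. -/

set_option autoImplicit false
set_option maxHeartbeats 400000
set_option linter.style.haveILetI false
set_option linter.unusedSectionVars false
set_option backward.isDefEq.respectTransparency.types false

noncomputable section

universe u

open CategoryTheory Limits AlgebraicGeometry Polynomial Filter
open W4swparbununimod (rpoly parPoly)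
open Groth.Agent.HP96 (hp)

namespace Groth.Agent.H98Par

/-- The structures over a given set of weights. -/
def mkStr {C : Type*} [Category C] {E F : C} (𝓔 : ParSh.Str E) (piece : Fin (𝓔.l + 1) → Subobject F)
    (bot : Subobject F) (h₁ : piece 0 = ⊤) (h₂ : Antitone piece) (h₃ : ∀ j, bot ≤ piece j) : ParSh.Str F :=
  ⟨𝓔.l, piece, bot, 𝓔.wt, h₁, h₂, h₃, 𝓔.wt_strictMono, 𝓔.wt_nonneg, 𝓔.wt_lt_one⟩

theorem exists_eq_mkStr {C : Type*} [Category C] {E F : C} (𝓔 : ParSh.Str E) (𝓕 : ParSh.Str F)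
    (hw : Set.range 𝓕.wt = Set.range 𝓔.wt) :
    ∃ piece bot h₁ h₂ h₃, 𝓕 = mkStr 𝓔 piece bot h₁ h₂ h₃ := by
  obtain ⟨l', piece', bot', wt', h₁, h₂, h₃, h₄, h₅, h₆⟩ := 𝓕
  have hl : l' = 𝓔.l := by
    have a := Set.ncard_range_of_injective h₄.injective
    have b := Set.ncard_range_of_injective 𝓔.wt_strictMono.injective
    rw [hw, b] at a
    simpa using a.symm
  subst hl
  obtain rfl : wt' = 𝓔.wt := (StrictMono.range_inj h₄ 𝓔.wt_strictMono).1 hw
  exact ⟨piece', bot', h₁, h₂, h₃, rfl⟩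

variable {X : Scheme.{u}} {E F : X.Modules}

theorem at_wt (𝓔 : ParSh.Str E) (j : Fin (𝓔.l + 1)) : 𝓔.at (𝓔.wt j) = 𝓔.piece j :=
  𝓔.at_eq_piece j le_rfl fun _ h => 𝓔.wt_strictMono h

theorem at_one (𝓔 : ParSh.Str E) : 𝓔.at 1 = 𝓔.bot :=
  𝓔.at_eq_bot fun j => lt_of_le_of_lt (𝓔.wt_strictMono.monotone (Fin.le_last j)) 𝓔.wt_lt_one

theorem factors_pieceX (𝓔 : ParSh.Str E) {piece : Fin (𝓔.l + 1) → Subobject F} {bot : Subobject F}
    {h₁ : piece 0 = ⊤} {h₂ : Antitone piece} {h₃ : ∀ j, bot ≤ piece j} {f : E ⟶ F}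
    (hf : ParSh.IsParHom 𝓔 (mkStr 𝓔 piece bot h₁ h₂ h₃) f) (j : Fin (𝓔.l + 2)) :
    ((mkStr 𝓔 piece bot h₁ h₂ h₃).pieceX j).Factors ((𝓔.pieceX j).arrow ≫ f) := by
  set 𝓕 := mkStr 𝓔 piece bot h₁ h₂ h₃ with h𝓕
  induction j using Fin.lastCases with
  | last =>
    have h := hf 1 zero_le_one le_rfl
    rw [at_one 𝓔, at_one 𝓕] at h
    rw [𝓔.pieceX_last]
    exact (show 𝓕.pieceX (Fin.last (𝓕.l + 1)) = 𝓕.bot from 𝓕.pieceX_last).symm ▸ h
  | cast j =>
    have h := hf (𝓔.wt j) (𝓔.wt_nonneg.trans (𝓔.wt_strictMono.monotone (Fin.zero_le j)))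
      (le_trans (𝓔.wt_strictMono.monotone (Fin.le_last j)) 𝓔.wt_lt_one.le)
    rw [at_wt 𝓔 j, show 𝓕.at (𝓔.wt j) = 𝓕.piece j from at_wt 𝓕 j] at h
    rw [𝓔.pieceX_castSucc]
    exact (show 𝓕.pieceX j.castSucc = 𝓕.piece j from 𝓕.pieceX_castSucc j).symm ▸ h

theorem exists_idx_at (𝓐 : ParSh.Str E) (a : ℝ) :
    ∃ i : Fin (𝓐.l + 2), ∀ (G : X.Modules) (piece : Fin (𝓐.l + 1) → Subobject G) (bot : Subobject G) h₁ h₂ h₃,
      (mkStr 𝓐 piece bot h₁ h₂ h₃).at a = (mkStr 𝓐 piece bot h₁ h₂ h₃).pieceX i := by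
  by_cases h : ∃ j, a ≤ 𝓐.wt j
  · classical
    obtain ⟨j₀, hj₀, hmin⟩ := Finset.exists_min_image (Finset.univ.filter fun j => a ≤ 𝓐.wt j) id
      (by obtain ⟨j, hj⟩ := h; exact ⟨j, Finset.mem_filter.2 ⟨Finset.mem_univ _, hj⟩⟩)
    refine ⟨j₀.castSucc, fun G piece bot h₁ h₂ h₃ => ?_⟩
    rw [show (mkStr 𝓐 piece bot h₁ h₂ h₃).pieceX j₀.castSucc = (mkStr 𝓐 piece bot h₁ h₂ h₃).piece j₀
      from (mkStr 𝓐 piece bot h₁ h₂ h₃).pieceX_castSucc j₀]
    exact (mkStr 𝓐 piece bot h₁ h₂ h₃).at_eq_piece j₀ (Finset.mem_filter.1 hj₀).2 fun j hj =>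
      not_le.1 fun hle => absurd (hmin j (Finset.mem_filter.2 ⟨Finset.mem_univ _, hle⟩)) hj.not_ge
  · refine ⟨Fin.last _, fun G piece bot h₁ h₂ h₃ => ?_⟩
    rw [show (mkStr 𝓐 piece bot h₁ h₂ h₃).pieceX (Fin.last (𝓐.l + 1)) = (mkStr 𝓐 piece bot h₁ h₂ h₃).bot
      from (mkStr 𝓐 piece bot h₁ h₂ h₃).pieceX_last]
    exact ParSh.Str.at_eq_bot _ fun j => not_le.1 fun hle => h ⟨j, hle⟩

variable {k : Type u} [Field k] [X.Over (Spec (CommRingCat.of k))]
  [IsProper (X ↘ (Spec (CommRingCat.of k)))] {L : X.Modules}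

theorem ker_and_image (hL : CohB1.IsAmple L) (d : ℕ)
    (hE : Coh.IsCoh E) (hF : Coh.IsCoh F) (hE0 : ¬ IsZero E) (hF0 : ¬ IsZero F)
    (hEp : ShStab.IsPure X E d) (hFp : ShStab.IsPure X F d)
    (𝓔 : ParSh.Str E) (𝓕 : ParSh.Str F)
    (hcE : ∀ j, Coh.IsCoh ((𝓔.pieceX j : Subobject E) : X.Modules))
    (hcF : ∀ j, Coh.IsCoh ((𝓕.pieceX j : Subobject F) : X.Modules))
    (hw : Set.range 𝓕.wt = Set.range 𝓔.wt) (hw0 : 0 < 𝓔.wt 0)
    {P R : ℚ[X]} (hP : ShStab.IsHilbPoly k X L E P) (hR : ShStab.IsHilbPoly k X L F R)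
    {PX : Fin (𝓔.l + 2) → ℚ[X]}
    (hPX : ∀ j, ShStab.IsHilbPoly k X L ((𝓔.pieceX j : Subobject E) : X.Modules) (PX j))
    {RX : Fin (𝓕.l + 2) → ℚ[X]}
    (hRX : ∀ j, ShStab.IsHilbPoly k X L ((𝓕.pieceX j : Subobject F) : X.Modules) (RX j))
    (hssE : ∀ (W : X.Modules) (ι : W ⟶ E), Mono ι → Coh.IsCoh W → ¬ IsZero W → ShStab.IsPure X (cokernel ι) d →
        ∀ (Q : ℚ[X]) (QX : Fin (𝓔.l + 2) → ℚ[X]), ShStab.IsHilbPoly k X L W Q →
          (∀ j, ShStab.IsHilbPoly k X L (((𝓔.induced ι).pieceX j : Subobject W) : X.Modules) (QX j)) →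
          ∃ M : ℕ, ∀ m : ℕ, M ≤ m →
            (parPoly (𝓔.induced ι) QX).eval (m : ℝ) * (StabCat.alpha d P : ℝ) ≤
              (parPoly 𝓔 PX).eval (m : ℝ) * (StabCat.alpha d Q : ℝ))
    (hssF : ∀ (W : X.Modules) (ι : W ⟶ F), Mono ι → Coh.IsCoh W → ¬ IsZero W → ShStab.IsPure X (cokernel ι) d →
        ∀ (Q : ℚ[X]) (QX : Fin (𝓕.l + 2) → ℚ[X]), ShStab.IsHilbPoly k X L W Q →
          (∀ j, ShStab.IsHilbPoly k X L (((𝓕.induced ι).pieceX j : Subobject W) : X.Modules) (QX j)) →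
          ∃ M : ℕ, ∀ m : ℕ, M ≤ m →
            (parPoly (𝓕.induced ι) QX).eval (m : ℝ) * (StabCat.alpha d R : ℝ) ≤
              (parPoly 𝓕 RX).eval (m : ℝ) * (StabCat.alpha d Q : ℝ))
    (hred : parPoly 𝓔 PX * Polynomial.C (StabCat.alpha d R : ℝ) =
      parPoly 𝓕 RX * Polynomial.C (StabCat.alpha d P : ℝ))
    (f : E ⟶ F) (hf : ParSh.IsParHom 𝓔 𝓕 f)
    {K V : X.Modules} (j : K ⟶ E) [Mono j] (w : j ≫ f = 0) (hex : (ShortComplex.mk j f w).Exact)
    (q : E ⟶ V) [Epi q] (u : V ⟶ F) [Mono u] (hqu : q ≫ u = f) :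
    (∀ (QK : ℚ[X]) (QKX : Fin (𝓔.l + 2) → ℚ[X]), ShStab.IsHilbPoly k X L K QK →
        (∀ j', ShStab.IsHilbPoly k X L (((𝓔.induced j).pieceX j' : Subobject K) : X.Modules) (QKX j')) →
        parPoly (𝓔.induced j) QKX * Polynomial.C (StabCat.alpha d P : ℝ) =
          parPoly 𝓔 PX * Polynomial.C (StabCat.alpha d QK : ℝ)) ∧
    ShStab.IsPure X (cokernel u) d ∧
    (∀ a : ℝ, 0 ≤ a → a ≤ 1 → (𝓔.coinduced q).at a = (𝓕.induced u).at a) := by
  have := Crv77.isNoetherian_of_proper k X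
  obtain ⟨fp, fb, h₁, h₂, h₃, rfl⟩ := exists_eq_mkStr 𝓔 𝓕 hw
  set 𝓕 := mkStr 𝓔 fp fb h₁ h₂ h₃ with h𝓕
  have hzq : j ≫ q = 0 := by rw [← cancel_mono u, Category.assoc, hqu, w, Limits.zero_comp]
  have hS : (ShortComplex.mk j q hzq).ShortExact :=
    { exact := ShortComplex.exact_of_f_is_kernel _ (KernelFork.IsLimit.ofι' j hzq fun {T} x hx =>
        ⟨hex.lift x (show x ≫ f = 0 by rw [← hqu, reassoc_of% hx, Limits.zero_comp]), hex.lift_f _ _⟩) }
  have hK : Coh.IsCoh K :=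
    Crv77.isCoh_of_iso (hex.fIsKernel.conePointUniqueUpToIso (limit.isLimit _)).symm (QC70.isCoh_kernel f hE hF.1)
  have hV : Coh.IsCoh V := Crv77.isCoh_of_shortExact hS hK hE
  -- the kernel is saturated
  have hKsat : ShStab.IsPure X (cokernel j) d := by
    have hVp : ShStab.IsPure X V d := fun G g hg hG hG0 => hFp G (g ≫ u) inferInstance hG hG0
    exact HP96.isPure_of_iso
      ((cokernelIsCokernel j).coconePointUniqueUpToIso hS.gIsCokernel).symm hVp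
  obtain ⟨T, κ, t, hκ, ht, hfac, hT, hTsat, hα⟩ := exists_sat (k := k) hL hF hFp u hV
  let 𝓒 := 𝓔.coinduced q
  have hpull : ∀ i, Coh.IsCoh (((Subobject.pullback j).obj (𝓔.pieceX i) : Subobject K) : X.Modules) := fun i =>
    isCoh_pullback_subobject j hK hE _ (hcE i)
  have hCo : ∀ i : Fin (𝓔.l + 2), 𝓒.pieceX i = imageSubobject ((𝓔.pieceX i).arrow ≫ q) := fun i => by
    induction i using Fin.lastCases with
    | last => rw [ParSh.Str.pieceX_last]; exact 𝓒.pieceX_last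
    | cast i => rw [ParSh.Str.pieceX_castSucc]; exact 𝓒.pieceX_castSucc i
  have himg : ∀ i, Coh.IsCoh ((imageSubobject ((𝓔.pieceX i).arrow ≫ q) : Subobject V) : X.Modules) ∧
      hp k L (𝓔.pieceX i : X.Modules) = hp k L ((Subobject.pullback j).obj (𝓔.pieceX i) : X.Modules) +
        hp k L (imageSubobject ((𝓔.pieceX i).arrow ≫ q) : X.Modules) := fun i => by
    obtain ⟨h', hT'⟩ := exists_shortExact_piece hzq hS (𝓔.pieceX i)
    have h3 := Crv77.isCoh_of_shortExact hT' (hpull i) (hcE i)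
    exact ⟨h3, HP96.hp_add k hL.1 hT' (hpull i) (hcE i) h3⟩
  have hind : ∀ i, Coh.IsCoh (((Subobject.pullback u).obj (𝓕.pieceX i) : Subobject V) : X.Modules) := fun i =>
    isCoh_pullback_subobject u hV hF _ (hcF i)
  have hle : ∀ i : Fin (𝓔.l + 2),
      imageSubobject ((𝓔.pieceX i).arrow ≫ q) ≤ (Subobject.pullback u).obj (𝓕.pieceX i) := fun i => by
    have sq := Subobject.isPullback u (𝓕.pieceX i)
    refine imageSubobject_le _ (sq.lift (Subobject.factorThru _ _ (factors_pieceX 𝓔 hf i))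
      ((𝓔.pieceX i).arrow ≫ q) ?_) (sq.lift_snd _ _ _)
    rw [Subobject.factorThru_arrow, Category.assoc, hqu]
  -- additivity
  have hadd : ∀ m : ℕ, (PP k L (𝓔.induced j)).eval (m : ℝ) + (PP k L 𝓒).eval (m : ℝ) =
      (PP k L 𝓔).eval (m : ℝ) := fun m => by
    rw [eval_PP, eval_PP, eval_PP]
    refine comb_add (n := 𝓔.l) 𝓔.wtX _ _ _ fun i => ?_
    rw [induced_pieceX j 𝓔 i, hCo i, hv, hv, hv, (himg i).2]
    simp [Polynomial.map_add]
  have hαadd : StabCat.alpha d (hp k L E) = StabCat.alpha d (hp k L K) + StabCat.alpha d (hp k L V) := by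
    rw [HP96.hp_add k hL.1 hS hK hE hV, HP96.alpha_add]
  -- the chain of inequalities
  have ha : (0 : ℝ) < (StabCat.alpha d P : ℝ) := by
    rw [HP96.eq_hp k hP]; exact_mod_cast HP96.alpha_pure_pos hL hEp hE hE0
  have hr : (0 : ℝ) < (StabCat.alpha d R : ℝ) := by
    rw [HP96.eq_hp k hR]; exact_mod_cast HP96.alpha_pure_pos hL hFp hF hF0
  have hmono : ∀ᶠ m : ℕ in atTop, ∀ i : Fin (𝓔.l + 2),
      hv k L (𝓒.pieceX i : X.Modules) m ≤ hv k L ((Subobject.pullback u).obj (𝓕.pieceX i) : X.Modules) m ∧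
      hv k L ((Subobject.pullback u).obj (𝓕.pieceX i) : X.Modules) m ≤
        hv k L ((Subobject.pullback κ).obj (𝓕.pieceX i) : X.Modules) m := by
    refine eventually_all.2 fun i => ((?_ : ∀ᶠ m : ℕ in atTop, _).and
      (pieceX_map (k := k) hL u κ t hfac hF hV hT _ (hcF i)))
    rw [hCo i]
    exact hv_le hL (Subobject.ofLE _ _ (hle i)) (himg i).1 (hind i)
  have hTeval : ∀ m : ℕ, (PP k L (𝓕.induced κ)).eval (m : ℝ) =
      comb 𝓔.wtX fun i => hv k L ((Subobject.pullback κ).obj (𝓕.pieceX i) : X.Modules) m := fun m => by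
    rw [eval_PP]
    exact congrArg (comb 𝓔.wtX) (funext fun i => by rw [induced_pieceX κ 𝓕 i])
  have hmain : ∀ᶠ m : ℕ in atTop,
      (∀ i : Fin (𝓔.l + 2), hv k L (𝓒.pieceX i : X.Modules) m =
          hv k L ((Subobject.pullback u).obj (𝓕.pieceX i) : X.Modules) m ∧
        hv k L ((Subobject.pullback u).obj (𝓕.pieceX i) : X.Modules) m =
          hv k L ((Subobject.pullback κ).obj (𝓕.pieceX i) : X.Modules) m) ∧
      (PP k L (𝓔.induced j)).eval (m : ℝ) * (StabCat.alpha d P : ℝ) =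
        (PP k L 𝓔).eval (m : ℝ) * (StabCat.alpha d (hp k L K) : ℝ) := by
    filter_upwards [hmono, PP_induced_le hL hE 𝓔 hcE hPX hssE j hK hKsat,
      PP_induced_le hL hF 𝓕 hcF hRX hssF κ hT hTsat] with m hm hE' hF'
    have hq : (StabCat.alpha d P : ℝ) =
        (StabCat.alpha d (hp k L K) : ℝ) + (StabCat.alpha d (hp k L V) : ℝ) := by
      rw [HP96.eq_hp k hP]; exact_mod_cast hαadd
    have hred' : (PP k L 𝓔).eval (m : ℝ) * (StabCat.alpha d R : ℝ) =
        (PP k L 𝓕).eval (m : ℝ) * (StabCat.alpha d P : ℝ) := by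
      have h := congrArg (Polynomial.eval (m : ℝ)) hred
      rw [eval_mul, eval_mul, eval_C, eval_C, parPoly_eq_PP 𝓔 hPX, parPoly_eq_PP 𝓕 hRX] at h
      exact h
    rw [hα] at hF'
    have h0 : 0 ≤ 𝓔.wtX 0 := hw0.le.trans (wtX_zero 𝓔).ge
    have hw' : ∀ i : Fin (𝓔.l + 1), 𝓔.wtX i.castSucc ≤ 𝓔.wtX i.succ := fun i => (wtX_lt_succ 𝓔 i).le
    have hCT : (PP k L 𝓒).eval (m : ℝ) ≤ (PP k L (𝓕.induced κ)).eval (m : ℝ) := by
      rw [eval_PP, hTeval]
      exact comb_mono (n := 𝓔.l) h0 hw' fun i => (hm i).1.trans (hm i).2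
    have hA := hadd m
    set eE := (PP k L 𝓔).eval (m : ℝ)
    set eF := (PP k L 𝓕).eval (m : ℝ)
    set eC := (PP k L 𝓒).eval (m : ℝ) with heC
    set eK := (PP k L (𝓔.induced j)).eval (m : ℝ)
    set eT := (PP k L (𝓕.induced κ)).eval (m : ℝ) with heT
    set a := (StabCat.alpha d P : ℝ)
    set r := (StabCat.alpha d R : ℝ)
    set b := (StabCat.alpha d (hp k L K) : ℝ)
    set c := (StabCat.alpha d (hp k L V) : ℝ)
    have i1 : eE * c ≤ eC * a := by
      have h2 : eE * a = eE * b + eE * c := by rw [hq, mul_add]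
      have h3 : eK * a + eC * a = eE * a := by rw [← add_mul, hA]
      linarith
    have i2 : eC * a * r ≤ eT * a * r :=
      mul_le_mul_of_nonneg_right (mul_le_mul_of_nonneg_right hCT ha.le) hr.le
    have i3 : eT * r * a ≤ eF * c * a := mul_le_mul_of_nonneg_right hF' ha.le
    have i4 : eF * c * a = eE * c * r := by
      calc eF * c * a = eF * a * c := by ring
        _ = eE * r * c := by rw [hred']
        _ = eE * c * r := by ring
    have i5 : eE * c * r ≤ eC * a * r := mul_le_mul_of_nonneg_right i1 hr.le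
    have i6 : eT * r * a = eT * a * r := by ring
    have heq : eC = eT := mul_right_cancel₀ ha.ne' (mul_right_cancel₀ hr.ne' (by linarith))
    refine ⟨fun i => ?_, ?_⟩
    · rw [heC, heT, eval_PP, hTeval] at heq
      have := eq_of_comb_eq (n := 𝓔.l) (hw0.trans_le (wtX_zero 𝓔).ge) (wtX_lt_succ 𝓔)
        (fun i => (hm i).1.trans (hm i).2) heq i
      exact ⟨le_antisymm (hm i).1 ((hm i).2.trans this.ge), le_antisymm (hm i).2 (this.ge.trans (hm i).1)⟩
    · have hCa : eC * a = eE * c := mul_right_cancel₀ hr.ne' (by linarith)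
      have h3 : eK * a + eC * a = eE * a := by rw [← add_mul, hA]
      have h2 : eE * a = eE * b + eE * c := by rw [hq, mul_add]
      linarith
  refine ⟨fun QK QKX hQK hQKX => ?_, ?_, fun a _ _ => ?_⟩
  · refine poly_eq_of_eventually ?_
    filter_upwards [hmain] with m hm
    rw [eval_mul, eval_mul, eval_C, eval_C, parPoly_eq_PP (𝓔.induced j) hQKX, parPoly_eq_PP 𝓔 hPX,
      HP96.eq_hp k hQK]
    exact hm.2
  · -- the image is saturated
    have e0 : ∀ᶠ m : ℕ in atTop, hv k L V m = hv k L T m := by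
      filter_upwards [hmain] with m hm
      have h := (hm.1 0).2
      erw [pieceX_zero 𝓕, Subobject.pullback_top, Subobject.pullback_top] at h
      have htop : ∀ A : X.Modules, Coh.IsCoh A → hv k L ((⊤ : Subobject A) : X.Modules) m = hv k L A m :=
        fun A hA => by rw [hv, hv, HP96.hp_congr k hL.1 (asIso (⊤ : Subobject A).arrow) hA]
      exact (htop V hV).symm.trans (h.trans (htop T hT))
    haveI := isIso_of_hv_eq hL t hV hT e0
    exact HP96.isPure_of_iso (cokernel.mapIso κ u (asIso t).symm (Iso.refl F) (by simp [← hfac])) hTsat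
  · obtain ⟨i, hi⟩ := exists_idx_at 𝓔 a
    have hC' : 𝓒.at a = 𝓒.pieceX i := hi V 𝓒.piece 𝓒.bot 𝓒.piece_zero 𝓒.piece_anti 𝓒.bot_le
    have hI' : (𝓕.induced u).at a = (𝓕.induced u).pieceX i :=
      hi V (𝓕.induced u).piece (𝓕.induced u).bot (𝓕.induced u).piece_zero (𝓕.induced u).piece_anti
        (𝓕.induced u).bot_le
    haveI : IsIso (Subobject.ofLE _ _ (hle i)) := isIso_of_hv_eq hL _ (himg i).1 (hind i) (by
      filter_upwards [hmain] with m hm
      have h := (hm.1 i).1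
      rwa [hCo i] at h)
    change 𝓒.at a = _
    rw [hC', hI', hCo i, induced_pieceX u 𝓕 i]
    refine le_antisymm (hle i) (Subobject.le_of_comm (inv (Subobject.ofLE _ _ (hle i))) ?_)
    rw [IsIso.inv_comp_eq, Subobject.ofLE_arrow]

end Groth.Agent.H98Par

end
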