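import Mathlib

/-! Leading coefficients and asymptotics of polynomials. -/

set_option autoImplicit false

open Polynomial Filter Topology

namespace Groth.Agent.H98Par

theorem tendsto_eval_div_pow (F : ℝ[X]) (e : ℕ) (h : ∀ n, e < n → F.coeff n = 0) :
    Tendsto (fun m : ℕ => F.eval (m : ℝ) / (m : ℝ) ^ e) atTop (𝓝 (F.coeff e)) := by
  have hd : F.natDegree < e + 1 := Nat.lt_succ_of_le (natDegree_le_iff_coeff_eq_zero.2 fun n hn => h n hn)
  have hsum : ∀ m : ℕ, F.eval (m : ℝ) / (m : ℝ) ^ e =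
      ∑ i ∈ Finset.range (e + 1), F.coeff i * ((m : ℝ) ^ i / (m : ℝ) ^ e) := fun m => by
    rw [eval_eq_sum_range' hd, Finset.sum_div]
    exact Finset.sum_congr rfl fun i _ => mul_div_assoc _ _ _
  simp only [hsum]
  have hlim : F.coeff e = ∑ i ∈ Finset.range (e + 1), F.coeff i * (if i = e then (1 : ℝ) else 0) := by
    simp
  rw [hlim]
  refine tendsto_finsetSum _ fun i hi => Tendsto.const_mul _ ?_
  by_cases hie : i = e
  · subst hie
    rw [if_pos rfl]
    refine tendsto_const_nhds.congr' ?_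
    filter_upwards [eventually_ne_atTop 0] with m hm
    rw [div_self (pow_ne_zero _ (Nat.cast_ne_zero.2 hm))]
  · rw [if_neg hie]
    have hlt : i < e := lt_of_le_of_ne (Nat.lt_succ_iff.1 (Finset.mem_range.1 hi)) hie
    exact (tendsto_pow_div_pow_atTop_zero hlt).comp tendsto_natCast_atTop_atTop

theorem coeff_nonpos_of_eventually (F : ℝ[X]) (e : ℕ) (h : ∀ n, e < n → F.coeff n = 0)
    (h0 : ∃ M : ℕ, ∀ m : ℕ, M ≤ m → F.eval (m : ℝ) ≤ 0) : F.coeff e ≤ 0 := by
  refine le_of_tendsto (tendsto_eval_div_pow F e h) ?_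
  obtain ⟨M, hM⟩ := h0
  filter_upwards [eventually_ge_atTop M] with m hm
  exact div_nonpos_of_nonpos_of_nonneg (hM m hm) (by positivity)

theorem eventually_neg_of_coeff (F : ℝ[X]) (e : ℕ) (h : ∀ n, e < n → F.coeff n = 0)
    (h0 : F.coeff e < 0) : ∃ M : ℕ, ∀ m : ℕ, M ≤ m → F.eval (m : ℝ) < 0 := by
  obtain ⟨M, hM⟩ := eventually_atTop.1 ((tendsto_eval_div_pow F e h).eventually (eventually_lt_nhds h0))
  refine ⟨M + 1, fun m hm => ?_⟩
  have := hM m (by omega)
  have hp : (0 : ℝ) < (m : ℝ) ^ e := by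
    have : (0 : ℝ) < m := by exact_mod_cast (show 0 < m by omega)
    positivity
  rwa [div_lt_iff₀ hp, zero_mul] at this

end Groth.Agent.H98Par
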