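import Groth.Agent.H98Par.Hilb
import Groth.Agent.QC70.Closure

/-! The parabolic Hilbert polynomial in terms of the quotients, and induced structures. -/

set_option autoImplicit false
set_option maxHeartbeats 400000
set_option backward.isDefEq.respectTransparency.types false

noncomputable section

universe u

open CategoryTheory Limits AlgebraicGeometry Polynomial
open W4swparbununimod (rpoly parPoly)

namespace Groth.Agent.H98Par

section Fin

theorem abel_sum {M : Type*} [AddCommGroup M] {n : ℕ} (g : Fin (n + 2) → M) :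
    ∑ j : Fin (n + 1), g j.succ + g 0 = ∑ j : Fin (n + 1), g j.castSucc + g (Fin.last (n + 1)) := by
  exact (add_comm _ _).trans ((Fin.sum_univ_succ g).symm.trans (Fin.sum_univ_castSucc g))

theorem weighted_eq {R : Type*} [CommRing R] {n : ℕ} (w : Fin (n + 2) → R) (hw : w (Fin.last (n + 1)) = 1)
    (H : Fin (n + 2) → R) (h0 : H 0 = 0) (P : R) :
    (P - H (Fin.last (n + 1))) +
        ∑ j : Fin (n + 1), w j.castSucc * ((P - H j.castSucc) - (P - H j.succ)) =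
      P - ∑ j : Fin (n + 1), (w j.succ - w j.castSucc) * H j.succ := by
  have h := abel_sum fun j => w j * H j
  simp only [h0, mul_zero, add_zero, hw, one_mul] at h
  simp only [sub_sub_sub_cancel_left, mul_sub, sub_mul, Finset.sum_sub_distrib]
  linear_combination h

end Fin

variable {k : Type u} [Field k] {X : Scheme.{u}} [X.Over (Spec (CommRingCat.of k))]
  [IsProper (X ↘ (Spec (CommRingCat.of k)))] {L : X.Modules} {E : X.Modules}

omit [IsProper (X ↘ (Spec (CommRingCat.of k)))] in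
theorem twistSub_le {I : X.IdealSheafData} {𝓔 : ParSh.Str E} (h : 𝓔.Along I) (j : Fin (𝓔.l + 2)) :
    ParSh.twistSub I E ≤ 𝓔.pieceX j :=
  h ▸ 𝓔.bot_le_pieceX j

theorem pieceX_zero (𝓔 : ParSh.Str E) : 𝓔.pieceX 0 = ⊤ := by
  rw [← Fin.castSucc_zero, ParSh.Str.pieceX_castSucc, 𝓔.piece_zero]

variable (hL : PicF.IsInvertible L) (hE : Coh.IsCoh E) (𝓔 : ParSh.Str E)
  (hcoh : ∀ j, Coh.IsCoh ((𝓔.pieceX j : Subobject E) : X.Modules))
  {P : ℚ[X]} (hP : ShStab.IsHilbPoly k X L E P)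
include hL hE hcoh hP

theorem hilb_zero {H : Fin (𝓔.l + 2) → ℚ[X]}
    (hH : ∀ j, ShStab.IsHilbPoly k X L (cokernel (𝓔.pieceX j).arrow) (H j)) : H 0 = 0 := by
  have h := hH 0
  rw [pieceX_zero] at h
  exact hilb_coker_top hL h

theorem PX_eq {PX H : Fin (𝓔.l + 2) → ℚ[X]}
    (hPX : ∀ j, ShStab.IsHilbPoly k X L ((𝓔.pieceX j : Subobject E) : X.Modules) (PX j))
    (hH : ∀ j, ShStab.IsHilbPoly k X L (cokernel (𝓔.pieceX j).arrow) (H j)) (j) : PX j = P - H j :=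
  hilb_unique (hPX j) (hilb_coker_of_piece hL hE (hcoh j) hP (hH j))

theorem parPoly_eq {PX H : Fin (𝓔.l + 2) → ℚ[X]}
    (hPX : ∀ j, ShStab.IsHilbPoly k X L ((𝓔.pieceX j : Subobject E) : X.Modules) (PX j))
    (hH : ∀ j, ShStab.IsHilbPoly k X L (cokernel (𝓔.pieceX j).arrow) (H j)) :
    parPoly 𝓔 PX =
      rpoly P - ∑ j : Fin (𝓔.l + 1), C (𝓔.wtX j.succ - 𝓔.wtX j.castSucc) * rpoly (H j.succ) := by
  have h0 : rpoly (H 0) = 0 := by rw [hilb_zero hL hE 𝓔 hcoh hP hH]; exact Polynomial.map_zero _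
  have := weighted_eq (fun j => C (𝓔.wtX j)) (by simp) (fun j => rpoly (H j)) h0 (rpoly P)
  simp only [← C_sub] at this
  rw [← this, parPoly]
  simp only [PX_eq hL hE 𝓔 hcoh hP hPX hH, Polynomial.map_sub, ParSh.Str.wtX_castSucc]

theorem parHilb_eq {H : Fin (𝓔.l + 2) → ℚ[X]}
    (hH : ∀ j, ShStab.IsHilbPoly k X L (cokernel (𝓔.pieceX j).arrow) (H j)) (m : ℕ) :
    𝓔.parHilb k X L m =
      ((P.eval (m : ℚ) : ℚ) : ℝ) -
        ∑ j : Fin (𝓔.l + 1), (𝓔.wtX j.succ - 𝓔.wtX j.castSucc) * (((H j.succ).eval (m : ℚ) : ℚ) : ℝ) := by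
  have e : ∀ j, ((Curv2.euler k X (ShStab.twist X L ((𝓔.pieceX j : Subobject E) : X.Modules) m) : ℤ) : ℝ) =
      ((P.eval (m : ℚ) : ℚ) : ℝ) - (((H j).eval (m : ℚ) : ℚ) : ℝ) := fun j => by
    have h := hilb_coker_of_piece hL hE (hcoh j) hP (hH j) m
    rw [eval_sub] at h
    rw [← Rat.cast_sub, ← h, Rat.cast_intCast]
  have h0 : (((H 0).eval (m : ℚ) : ℚ) : ℝ) = 0 := by rw [hilb_zero hL hE 𝓔 hcoh hP hH]; simp
  rw [← weighted_eq 𝓔.wtX 𝓔.wtX_last (fun j => (((H j).eval (m : ℚ) : ℚ) : ℝ)) h0,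
    ParSh.Str.parHilb, ParSh.Str.parSum]
  simp only [← e, ParSh.Str.pieceX_last, ParSh.Str.pieceX_castSucc, ParSh.Str.wtX_castSucc]

theorem exists_coker {I : X.IdealSheafData} (h𝓔 : 𝓔.Along I) {d : ℕ}
    (hsupp : topologicalKrullDim ↥(CohB1.support E ∩ (I.support : Set X)) < (d : WithBot ℕ∞)) :
    ∃ H : Fin (𝓔.l + 2) → ℚ[X],
      (∀ j, ShStab.IsHilbPoly k X L (cokernel (𝓔.pieceX j).arrow) (H j)) ∧
        ∀ j n, d ≤ n → (H j).coeff n = 0 := by
  choose H h1 h2 using fun j => exists_hilb (k := k) hL (isCoh_coker hE _ (hcoh j))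
    (dim_support_coker I _ (twistSub_le h𝓔 j) hsupp)
  exact ⟨H, h1, h2⟩

theorem coeff_parPoly_eq {I : X.IdealSheafData} (h𝓔 : 𝓔.Along I) {d : ℕ}
    (hsupp : topologicalKrullDim ↥(CohB1.support E ∩ (I.support : Set X)) < (d : WithBot ℕ∞))
    {PX : Fin (𝓔.l + 2) → ℚ[X]}
    (hPX : ∀ j, ShStab.IsHilbPoly k X L ((𝓔.pieceX j : Subobject E) : X.Modules) (PX j))
    {n : ℕ} (hn : d ≤ n) : (parPoly 𝓔 PX).coeff n = (rpoly P).coeff n := by
  obtain ⟨H, h1, h2⟩ := exists_coker hL hE 𝓔 hcoh hP h𝓔 hsupp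
  rw [parPoly_eq hL hE 𝓔 hcoh hP hPX h1, coeff_sub, finsetSum_coeff,
    Finset.sum_eq_zero fun j _ => by rw [coeff_C_mul, Polynomial.coeff_map, h2 j.succ n hn]; simp,
    sub_zero]

end Groth.Agent.H98Par

end
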