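import Groth.Agent.H98Par.Stab
import Groth.Agent.H98Par.Ext
import Groth.Agent.HP96.Filt

/-! Comparisons of parabolic Hilbert polynomials of sub-modules, and bounds on their coefficients. -/

set_option autoImplicit false
set_option maxHeartbeats 400000
set_option linter.unusedSectionVars false
set_option linter.style.haveILetI false
set_option backward.isDefEq.respectTransparency.types false

noncomputable section

universe u

open CategoryTheory Limits AlgebraicGeometry Polynomial Filter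
open W4swparbununimod (rpoly parPoly parPolyOne)
open Groth.Agent.HP96 (hp)

namespace Groth.Agent.H98Par

section Comb

variable {n : ℕ}

/-- `w₀ q₀ + Σ (w_{j+1} - w_j) q_{j+1}`. -/
def comb (w q : Fin (n + 2) → ℝ) : ℝ :=
  w 0 * q 0 + ∑ j : Fin (n + 1), (w j.succ - w j.castSucc) * q j.succ

theorem comb_eq (w q : Fin (n + 2) → ℝ) (hw : w (Fin.last (n + 1)) = 1) :
    q (Fin.last (n + 1)) + ∑ j : Fin (n + 1), w j.castSucc * (q j.castSucc - q j.succ) = comb w q := by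
  have h := abel_sum fun j => w j * q j
  simp only [hw, one_mul] at h
  simp only [comb, mul_sub, sub_mul, Finset.sum_sub_distrib]
  linear_combination -h

theorem comb_add (w q q' q'' : Fin (n + 2) → ℝ) (h : ∀ j, q j + q' j = q'' j) :
    comb w q + comb w q' = comb w q'' := by
  simp only [comb]
  rw [add_add_add_comm, ← Finset.sum_add_distrib]
  simp only [← mul_add, h]

theorem comb_mono {w q q' : Fin (n + 2) → ℝ} (h0 : 0 ≤ w 0) (hw : ∀ j : Fin (n + 1), w j.castSucc ≤ w j.succ)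
    (h : ∀ j, q j ≤ q' j) : comb w q ≤ comb w q' :=
  add_le_add (mul_le_mul_of_nonneg_left (h 0) h0)
    (Finset.sum_le_sum fun j _ => mul_le_mul_of_nonneg_left (h j.succ) (sub_nonneg.2 (hw j)))

theorem eq_of_comb_eq {w q q' : Fin (n + 2) → ℝ} (h0 : 0 < w 0)
    (hw : ∀ j : Fin (n + 1), w j.castSucc < w j.succ) (h : ∀ j, q j ≤ q' j) (he : comb w q = comb w q')
    (j : Fin (n + 2)) : q j = q' j := by
  have h1 := mul_le_mul_of_nonneg_left (h 0) h0.le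
  have h2 := Finset.sum_le_sum fun j (_ : j ∈ Finset.univ) =>
    mul_le_mul_of_nonneg_left (h (Fin.succ j)) (sub_nonneg.2 (hw j).le)
  simp only [comb] at he
  induction j using Fin.cases with
  | zero => exact mul_left_cancel₀ h0.ne' (by linarith)
  | succ i =>
    have hs : ∑ j : Fin (n + 1), (w j.succ - w j.castSucc) * q j.succ =
        ∑ j : Fin (n + 1), (w j.succ - w j.castSucc) * q' j.succ := by linarith
    exact mul_left_cancel₀ (sub_pos.2 (hw i)).ne'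
      ((Finset.sum_eq_sum_iff_of_le fun l _ =>
        mul_le_mul_of_nonneg_left (h (Fin.succ l)) (sub_nonneg.2 (hw l).le)).1 hs i (Finset.mem_univ _))

end Comb

variable {X : Scheme.{u}} {E : X.Modules}

theorem wtX_zero (𝓔 : ParSh.Str E) : 𝓔.wtX 0 = 𝓔.wt 0 := by
  rw [← Fin.castSucc_zero, ParSh.Str.wtX_castSucc]

theorem wtX_lt_succ (𝓔 : ParSh.Str E) (j : Fin (𝓔.l + 1)) : 𝓔.wtX j.castSucc < 𝓔.wtX j.succ := by
  induction j using Fin.lastCases with
  | last => rw [𝓔.wtX_castSucc, Fin.succ_last, 𝓔.wtX_last]; exact 𝓔.wt_lt_one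
  | cast j => rw [Fin.succ_castSucc, 𝓔.wtX_castSucc, 𝓔.wtX_castSucc]; exact 𝓔.wt_strictMono j.castSucc_lt_succ

theorem pieceX_anti (𝓔 : ParSh.Str E) (j : Fin (𝓔.l + 1)) : 𝓔.pieceX j.succ ≤ 𝓔.pieceX j.castSucc := by
  induction j using Fin.lastCases with
  | last => rw [𝓔.pieceX_succ_last, 𝓔.pieceX_castSucc]; exact 𝓔.bot_le _
  | cast j => rw [𝓔.pieceX_succ_castSucc, 𝓔.pieceX_castSucc]; exact 𝓔.piece_anti j.castSucc_lt_succ.le

variable {k : Type u} [Field k] [X.Over (Spec (CommRingCat.of k))]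
  [IsProper (X ↘ (Spec (CommRingCat.of k)))] {L : X.Modules}

variable (k L) in
/-- The value at `m` of the Hilbert polynomial, as a real number. -/
def hv (M : X.Modules) (m : ℕ) : ℝ := (rpoly (hp k L M)).eval (m : ℝ)

variable (k L) in
/-- The parabolic Hilbert polynomial computed from the Hilbert polynomials of the pieces. -/
def PP (𝓔 : ParSh.Str E) : ℝ[X] := parPoly 𝓔 fun j => hp k L (𝓔.pieceX j : X.Modules)

theorem parPoly_eq_PP (𝓔 : ParSh.Str E) {PX : Fin (𝓔.l + 2) → ℚ[X]}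
    (hPX : ∀ j, ShStab.IsHilbPoly k X L ((𝓔.pieceX j : Subobject E) : X.Modules) (PX j)) :
    parPoly 𝓔 PX = PP k L 𝓔 :=
  congrArg (parPoly 𝓔) (funext fun j => HP96.eq_hp k (hPX j))

theorem eval_PP (𝓔 : ParSh.Str E) (m : ℕ) :
    (PP k L 𝓔).eval (m : ℝ) = comb 𝓔.wtX fun j => hv k L (𝓔.pieceX j : X.Modules) m := by
  rw [← comb_eq _ _ 𝓔.wtX_last, PP, parPoly, eval_add, eval_finsetSum]
  simp only [eval_mul, eval_C, eval_sub, ParSh.Str.wtX_castSucc]
  rfl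

theorem poly_eq_of_eventually {P Q : ℝ[X]} (h : ∀ᶠ m : ℕ in atTop, P.eval (m : ℝ) = Q.eval (m : ℝ)) :
    P = Q := by
  obtain ⟨M, hM⟩ := eventually_atTop.1 h
  refine eq_of_infinite_eval_eq P Q (Set.Infinite.mono ?_
    ((Set.Ici_infinite M).image (Nat.cast_injective (R := ℝ)).injOn))
  rintro _ ⟨m, hm, rfl⟩
  exact hM m hm

variable (hL : CohB1.IsAmple L)
include hL

theorem hv_le {A B : X.Modules} (φ : A ⟶ B) [Mono φ] (hA : Coh.IsCoh A) (hB : Coh.IsCoh B) :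
    ∀ᶠ m : ℕ in atTop, hv k L A m ≤ hv k L B m := by
  have e := HP96.hp_mono k hL.1 φ hA hB
  have hC := Crv77.isCoh_cokernel φ hA hB
  by_cases h0 : IsZero (cokernel φ)
  · rw [HP96.hp_eq_zero_of_isZero k hL.1 h0, add_zero] at e
    exact Filter.Eventually.of_forall fun m => by rw [hv, hv, e]
  · obtain ⟨N, hN⟩ := HP96.evPos_hp k hL hC h0
    filter_upwards [eventually_ge_atTop N] with m hm
    have := hN m hm
    rw [hv, hv, e, ← eval_cast, ← eval_cast, eval_add]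
    push_cast
    have : (0 : ℝ) < (((hp k L (cokernel φ)).eval (m : ℚ) : ℚ) : ℝ) := by exact_mod_cast this
    linarith

theorem isIso_of_hv_eq {A B : X.Modules} (φ : A ⟶ B) [Mono φ] (hA : Coh.IsCoh A) (hB : Coh.IsCoh B)
    (h : ∀ᶠ m : ℕ in atTop, hv k L A m = hv k L B m) : IsIso φ := by
  have e : hp k L A = hp k L B :=
    Polynomial.map_injective _ (Rat.castHom ℝ).injective (poly_eq_of_eventually h)
  have e' := HP96.hp_mono k hL.1 φ hA hB
  rw [e, left_eq_add] at e'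
  have hz := (HP96.isZero_iff_hp_eq_zero k hL (Crv77.isCoh_cokernel φ hA hB)).2 e'
  haveI : Epi φ := Abelian.epi_of_cokernel_π_eq_zero φ (hz.eq_of_tgt _ _)
  exact isIso_of_mono_of_epi φ

theorem hp_coeff_nonneg {M : X.Modules} (hM : Coh.IsCoh M) {d : ℕ} (hd : 1 ≤ d)
    (h : topologicalKrullDim (CohB1.support M) < (d : WithBot ℕ∞)) : 0 ≤ (hp k L M).coeff (d - 1) := by
  have := HP96.alpha_nonneg k hL hM (d := d - 1)
    (Snapper75.le_of_lt_succ (d := d - 1) (by rwa [Nat.sub_add_cancel hd]))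
  exact nonneg_of_mul_nonneg_right this (by exact_mod_cast Nat.factorial_pos _)

section Bounds

variable (hE : Coh.IsCoh E) {I : X.IdealSheafData} (𝓔 : ParSh.Str E) (h𝓔 : 𝓔.Along I)
  (hcoh : ∀ j, Coh.IsCoh ((𝓔.pieceX j : Subobject E) : X.Modules)) {d : ℕ} (hd : 1 ≤ d)
  (hsupp : topologicalKrullDim ↥(CohB1.support E ∩ (I.support : Set X)) < (d : WithBot ℕ∞))
include hE h𝓔 hcoh hd hsupp

theorem coeff_pred_bounds {P : ℚ[X]} (hP : ShStab.IsHilbPoly k X L E P) {PX : Fin (𝓔.l + 2) → ℚ[X]}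
    (hPX : ∀ j, ShStab.IsHilbPoly k X L ((𝓔.pieceX j : Subobject E) : X.Modules) (PX j)) :
    (rpoly (PX (Fin.last (𝓔.l + 1)))).coeff (d - 1) ≤ (parPoly 𝓔 PX).coeff (d - 1) ∧
      (parPoly 𝓔 PX).coeff (d - 1) ≤ (rpoly P).coeff (d - 1) := by
  have := Crv77.isNoetherian_of_proper k X
  have hQ : ∀ j, Coh.IsCoh (cokernel (𝓔.pieceX j).arrow) := fun j => isCoh_coker hE _ (hcoh j)
  have hQd := fun j => dim_support_coker I _ (twistSub_le h𝓔 j) hsupp
  let H := fun j => hp k L (cokernel (𝓔.pieceX j).arrow)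
  have hH : ∀ j, ShStab.IsHilbPoly k X L (cokernel (𝓔.pieceX j).arrow) (H j) :=
    fun j => HP96.isHilbPoly_hp k hL.1 (hQ j)
  have hPX' := PX_eq hL.1 hE 𝓔 hcoh hP hPX hH
  constructor
  · have hmono : ∀ j : Fin (𝓔.l + 1), (H j.castSucc).coeff (d - 1) ≤ (H j.succ).coeff (d - 1) := fun j => by
      have w : (𝓔.pieceX j.succ).arrow ≫ cokernel.π (𝓔.pieceX j.castSucc).arrow = 0 := by
        rw [← Subobject.ofLE_arrow (pieceX_anti 𝓔 j), Category.assoc, cokernel.condition, Limits.comp_zero]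
      let ψ : cokernel (𝓔.pieceX j.succ).arrow ⟶ cokernel (𝓔.pieceX j.castSucc).arrow := cokernel.desc _ _ w
      haveI : Epi ψ := by
        have : Epi (cokernel.π (𝓔.pieceX j.succ).arrow ≫ ψ) := by rw [cokernel.π_desc]; infer_instance
        exact epi_of_epi (cokernel.π (𝓔.pieceX j.succ).arrow) ψ
      have hS : (ShortComplex.mk (kernel.ι ψ) ψ (kernel.condition ψ)).ShortExact :=
        { exact := ShortComplex.exact_of_f_is_kernel _ (kernelIsKernel ψ) }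
      have hK : Coh.IsCoh (kernel ψ) := QC70.isCoh_kernel ψ (hQ _) (hQ _).1
      have e := HP96.hp_add k hL.1 hS hK (hQ _) (hQ _)
      have := hp_coeff_nonneg (k := k) hL hK hd (lt_of_le_of_lt (HP96.dim_sub_le (kernel.ι ψ)) (hQd j.succ))
      change (hp k L _).coeff _ ≤ (hp k L _).coeff _
      rw [e, coeff_add]
      linarith
    rw [parPoly, coeff_add, finsetSum_coeff]
    refine le_add_of_nonneg_right (Finset.sum_nonneg fun j _ => ?_)
    rw [coeff_C_mul, coeff_sub, coeff_rpoly, coeff_rpoly, hPX', hPX', coeff_sub, coeff_sub]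
    refine mul_nonneg (𝓔.wt_nonneg.trans (𝓔.wt_strictMono.monotone (Fin.zero_le j))) ?_
    have : ((H j.castSucc).coeff (d - 1) : ℝ) ≤ ((H j.succ).coeff (d - 1) : ℝ) := by exact_mod_cast hmono j
    push_cast
    linarith
  · rw [parPoly_eq hL.1 hE 𝓔 hcoh hP hPX hH, coeff_sub, finsetSum_coeff]
    refine sub_le_self _ (Finset.sum_nonneg fun j _ => ?_)
    rw [coeff_C_mul, coeff_rpoly]
    exact mul_nonneg (sub_nonneg.2 (wtX_lt_succ 𝓔 j).le)
      (by exact_mod_cast hp_coeff_nonneg (k := k) hL (hQ _) hd (hQd _))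

end Bounds

theorem pieceX_map {W T : X.Modules} (ι : W ⟶ E) (κ : T ⟶ E) (t : W ⟶ T) [Mono t] (ht : t ≫ κ = ι)
    (hE : Coh.IsCoh E) (hW : Coh.IsCoh W) (hT : Coh.IsCoh T) (y : Subobject E) (hy : Coh.IsCoh (y : X.Modules)) :
    ∀ᶠ m : ℕ in atTop, hv k L ((Subobject.pullback ι).obj y : X.Modules) m ≤
      hv k L ((Subobject.pullback κ).obj y : X.Modules) m := by
  have := Crv77.isNoetherian_of_proper k X
  have sqW := Subobject.isPullback ι y
  let g := (Subobject.isPullback κ y).lift (Subobject.pullbackπ ι y)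
    (((Subobject.pullback ι).obj y).arrow ≫ t) (by rw [Category.assoc, ht, sqW.w])
  haveI : Mono g := mono_of_mono_fac ((Subobject.isPullback κ y).lift_snd _ _ _)
  exact hv_le hL g (isCoh_pullback_subobject ι hW hE y hy) (isCoh_pullback_subobject κ hT hE y hy)

theorem exists_sat {W : X.Modules} (hE : Coh.IsCoh E) {d : ℕ} (hpure : ShStab.IsPure X E d)
    (ι : W ⟶ E) [Mono ι] (hW : Coh.IsCoh W) :
    ∃ (T : X.Modules) (κ : T ⟶ E) (t : W ⟶ T), Mono κ ∧ Mono t ∧ t ≫ κ = ι ∧ Coh.IsCoh T ∧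
      ShStab.IsPure X (cokernel κ) d ∧ StabCat.alpha d (hp k L T) = StabCat.alpha d (hp k L W) := by
  have := Crv77.isNoetherian_of_proper k X
  have hd := HP96.dim_le_of_pure hpure hE
  let v := HP96.hpVal hE k hL hd
  let C : HP96.CS hE := ⟨Subobject.mk ι, HP96.mk_coh ι hW⟩
  obtain ⟨T, hCT, hT0, hTp⟩ := HP96.Val.exists_saturation (v := v) C
  obtain ⟨e⟩ := HP96.nonempty_quo_top_iso (A := T.1)
  have hle : Subobject.mk ι ≤ T.1 := hCT
  refine ⟨_, T.1.arrow, (Subobject.underlyingIso ι).inv ≫ Subobject.ofLE _ _ hle, inferInstance, inferInstance,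
    by simp, T.2, HP96.isPure_of_iso e ((HP96.isPure_quoCS_iff hE k hL hd le_top).2 hTp), ?_⟩
  have h1 : v.q ⊥ C = hp k L W := HP96.hpVal_mk hL hd ι hW
  have h2 : v.q ⊥ T = hp k L (T.1 : X.Modules) := HP96.hpVal_bot hE k hL hd T
  have h3 := v.al_add ⊥ C T
  rw [hT0, add_zero] at h3
  simp only [HP96.Val.al, h1, h2] at h3
  exact h3.symm

theorem alpha_sub_facts {W : X.Modules} {d : ℕ} (hpure : ShStab.IsPure X E d) (ι : W ⟶ E) [Mono ι]
    (hW : Coh.IsCoh W) : 0 ≤ StabCat.alpha d (hp k L W) ∧ (¬ IsZero W → 0 < StabCat.alpha d (hp k L W)) := by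
  refine ⟨?_, fun h0 => HP96.alpha_sub_pos hL hpure ι hW h0⟩
  by_cases h0 : IsZero W
  · rw [HP96.hp_eq_zero_of_isZero k hL.1 h0, StabCat.alpha, coeff_zero, mul_zero]
  · exact (HP96.alpha_sub_pos hL hpure ι hW h0).le

section One

variable (hE : Coh.IsCoh E) (𝓔 : ParSh.Str E)
  (hcoh : ∀ j, Coh.IsCoh ((𝓔.pieceX j : Subobject E) : X.Modules)) {d : ℕ}
  {H : Fin (𝓔.l + 2) → ℚ[X]} (hH : ∀ j, ShStab.IsHilbPoly k X L (cokernel (𝓔.pieceX j).arrow) (H j))
  (hq : ∀ j : Fin (𝓔.l + 1), ShStab.IsSemistable k X L (cokernel (𝓔.pieceX j.succ).arrow) (d - 1))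
  {W : X.Modules} (ι : W ⟶ E) [Mono ι] (hW : Coh.IsCoh W)
  {Q : ℚ[X]} (hQ : ShStab.IsHilbPoly k X L W Q) {QH : Fin (𝓔.l + 2) → ℚ[X]}
  (hQH : ∀ j, ShStab.IsHilbPoly k X L (cokernel ((𝓔.induced ι).pieceX j).arrow) (QH j))
include hE hcoh hH hq hW hQ hQH

theorem parPolyOne_le_PP : ∀ᶠ m : ℕ in atTop,
    (parPolyOne 𝓔 d Q QH H).eval (m : ℝ) ≤ (PP k L (𝓔.induced ι)).eval (m : ℝ) := by
  have := Crv77.isNoetherian_of_proper k X
  have hc := isCoh_induced ι hE hW 𝓔 hcoh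
  have hQX : ∀ j, ShStab.IsHilbPoly k X L (((𝓔.induced ι).pieceX j : Subobject W) : X.Modules)
      (hp k L ((𝓔.induced ι).pieceX j : X.Modules)) := fun j => HP96.isHilbPoly_hp k hL.1 (hc j)
  have key : ∀ j : Fin (𝓔.l + 1), ∀ᶠ m : ℕ in atTop, (rpoly (QH j.succ)).eval (m : ℝ) ≤
      ((StabCat.alpha (d - 1) (QH j.succ) / StabCat.alpha (d - 1) (H j.succ) : ℚ) : ℝ) *
        (rpoly (H j.succ)).eval (m : ℝ) := by
    intro j
    obtain ⟨hcQ, h0Q, hpQ, hss⟩ := hq j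
    have hαH : 0 < StabCat.alpha (d - 1) (H j.succ) := by
      rw [HP96.eq_hp k (hH j.succ)]; exact HP96.alpha_pure_pos hL hpQ hcQ h0Q
    have hcW : Coh.IsCoh (cokernel ((𝓔.induced ι).pieceX j.succ).arrow) :=
      isCoh_coker hW _ (hc j.succ)
    have hqe : ∀ q : Subobject W, q = (Subobject.pullback ι).obj (𝓔.pieceX j.succ) →
        ∃ μ : cokernel q.arrow ⟶ cokernel (𝓔.pieceX j.succ).arrow, Mono μ := by
      rintro _ rfl
      exact ⟨_, mono_coker_pullback ι _⟩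
    obtain ⟨μ, hμ⟩ := hqe _ (induced_pieceX ι 𝓔 j.succ)
    by_cases hz : IsZero (cokernel ((𝓔.induced ι).pieceX j.succ).arrow)
    · rw [HP96.eq_hp k (hQH j.succ), HP96.hp_eq_zero_of_isZero k hL.1 hz]
      exact Filter.Eventually.of_forall fun m => by simp [StabCat.alpha]
    by_cases hi : IsIso μ
    · rw [HP96.eq_hp k (hQH j.succ), HP96.hp_congr k hL.1 (asIso μ) hcQ, ← HP96.eq_hp k (hH j.succ),
        div_self hαH.ne']
      exact Filter.Eventually.of_forall fun m => by simp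
    obtain ⟨N, hN⟩ := hss _ μ hμ hcW hz hi _ _ (hQH j.succ) (hH j.succ)
    filter_upwards [eventually_ge_atTop N] with m hm
    have h := hN m hm
    rw [eval_smul, eval_smul, smul_eq_mul, smul_eq_mul] at h
    rw [← eval_cast, ← eval_cast, ← Rat.cast_mul, Rat.cast_le, div_mul_eq_mul_div, le_div_iff₀ hαH]
    linarith
  filter_upwards [eventually_all.2 key] with m hm
  rw [PP, parPoly_eq hL.1 hW (𝓔.induced ι) hc hQ hQX hQH, parPolyOne, eval_sub, eval_sub, eval_finsetSum,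
    eval_finsetSum]
  refine sub_le_sub_left (Finset.sum_le_sum fun j _ => ?_) _
  rw [eval_mul, eval_mul, eval_C, eval_C, induced_wtX ι 𝓔, induced_wtX ι 𝓔, mul_assoc]
  exact mul_le_mul_of_nonneg_left (hm j) (sub_nonneg.2 (wtX_lt_succ 𝓔 j).le)

end One

/-- Enlarging a sub-module increases the parabolic polynomial of the induced structure. -/
theorem PP_induced_mono {W T : X.Modules} (ι : W ⟶ E) (κ : T ⟶ E) (t : W ⟶ T) [Mono t] (ht : t ≫ κ = ι)
    (hE : Coh.IsCoh E) (hW : Coh.IsCoh W) (hT : Coh.IsCoh T) (𝓔 : ParSh.Str E)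
    (hcoh : ∀ j, Coh.IsCoh ((𝓔.pieceX j : Subobject E) : X.Modules)) :
    ∀ᶠ m : ℕ in atTop, (PP k L (𝓔.induced ι)).eval (m : ℝ) ≤ (PP k L (𝓔.induced κ)).eval (m : ℝ) := by
  filter_upwards [eventually_all.2 fun j => pieceX_map (k := k) hL ι κ t ht hE hW hT (𝓔.pieceX j) (hcoh j)]
    with m hm
  rw [eval_PP, eval_PP]
  refine comb_mono (n := 𝓔.l) ?_ (fun j => (wtX_lt_succ 𝓔 j).le) fun j => ?_
  · exact (wtX_zero 𝓔).ge.trans' 𝓔.wt_nonneg
  · rw [induced_pieceX ι 𝓔 j, induced_pieceX κ 𝓔 j]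
    exact hm j

/-- Semistability tested on saturated sub-modules bounds every coherent sub-module. -/
theorem PP_induced_le (hE : Coh.IsCoh E) {d : ℕ} (𝓔 : ParSh.Str E)
    (hcoh : ∀ j, Coh.IsCoh ((𝓔.pieceX j : Subobject E) : X.Modules))
    {P : ℚ[X]} {PX : Fin (𝓔.l + 2) → ℚ[X]}
    (hPX : ∀ j, ShStab.IsHilbPoly k X L ((𝓔.pieceX j : Subobject E) : X.Modules) (PX j))
    (hss : ∀ (W : X.Modules) (ι : W ⟶ E), Mono ι → Coh.IsCoh W → ¬ IsZero W → ShStab.IsPure X (cokernel ι) d →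
        ∀ (Q : ℚ[X]) (QX : Fin (𝓔.l + 2) → ℚ[X]), ShStab.IsHilbPoly k X L W Q →
          (∀ j, ShStab.IsHilbPoly k X L (((𝓔.induced ι).pieceX j : Subobject W) : X.Modules) (QX j)) →
          ∃ M : ℕ, ∀ m : ℕ, M ≤ m →
            (parPoly (𝓔.induced ι) QX).eval (m : ℝ) * (StabCat.alpha d P : ℝ) ≤
              (parPoly 𝓔 PX).eval (m : ℝ) * (StabCat.alpha d Q : ℝ))
    {T : X.Modules} (κ : T ⟶ E) [Mono κ] (hT : Coh.IsCoh T) (hsat : ShStab.IsPure X (cokernel κ) d) :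
    ∀ᶠ m : ℕ in atTop, (PP k L (𝓔.induced κ)).eval (m : ℝ) * (StabCat.alpha d P : ℝ) ≤
      (PP k L 𝓔).eval (m : ℝ) * (StabCat.alpha d (hp k L T) : ℝ) := by
  have := Crv77.isNoetherian_of_proper k X
  have hc := isCoh_induced κ hE hT 𝓔 hcoh
  by_cases h0 : IsZero T
  · refine Filter.Eventually.of_forall fun m => ?_
    have hz : ∀ y : Subobject T, hv k L (y : X.Modules) m = 0 := fun y => by
      rw [hv, HP96.hp_eq_zero_of_isZero k hL.1 (h0.of_mono y.arrow)]; simp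
    rw [eval_PP, HP96.hp_eq_zero_of_isZero k hL.1 h0]
    simp [comb, hz, StabCat.alpha]
  obtain ⟨M, hM⟩ := hss T κ inferInstance hT h0 hsat _
    (fun j => hp k L ((𝓔.induced κ).pieceX j : X.Modules)) (HP96.isHilbPoly_hp k hL.1 hT)
    (fun j => HP96.isHilbPoly_hp k hL.1 (hc j))
  filter_upwards [eventually_ge_atTop M] with m hm
  have := hM m hm
  rwa [parPoly_eq_PP 𝓔 hPX] at this

/-- Semistability and semistable flag quotients give semistability for the first modified polynomial. -/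
theorem parPolyOne_semistable (hE : Coh.IsCoh E) (h0 : ¬ IsZero E) {d : ℕ} (hpure : ShStab.IsPure X E d)
    (𝓔 : ParSh.Str E) (hcoh : ∀ j, Coh.IsCoh ((𝓔.pieceX j : Subobject E) : X.Modules))
    {P : ℚ[X]} (hP : ShStab.IsHilbPoly k X L E P) {PX : Fin (𝓔.l + 2) → ℚ[X]}
    (hPX : ∀ j, ShStab.IsHilbPoly k X L ((𝓔.pieceX j : Subobject E) : X.Modules) (PX j))
    {H : Fin (𝓔.l + 2) → ℚ[X]} (hH : ∀ j, ShStab.IsHilbPoly k X L (cokernel (𝓔.pieceX j).arrow) (H j))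
    (hss : ∀ (W : X.Modules) (ι : W ⟶ E), Mono ι → Coh.IsCoh W → ¬ IsZero W → ShStab.IsPure X (cokernel ι) d →
        ∀ (Q : ℚ[X]) (QX : Fin (𝓔.l + 2) → ℚ[X]), ShStab.IsHilbPoly k X L W Q →
          (∀ j, ShStab.IsHilbPoly k X L (((𝓔.induced ι).pieceX j : Subobject W) : X.Modules) (QX j)) →
          ∃ M : ℕ, ∀ m : ℕ, M ≤ m →
            (parPoly (𝓔.induced ι) QX).eval (m : ℝ) * (StabCat.alpha d P : ℝ) ≤
              (parPoly 𝓔 PX).eval (m : ℝ) * (StabCat.alpha d Q : ℝ))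
    (hq : ∀ j : Fin (𝓔.l + 1), ShStab.IsSemistable k X L (cokernel (𝓔.pieceX j.succ).arrow) (d - 1))
    {W : X.Modules} (ι : W ⟶ E) [Mono ι] (hW : Coh.IsCoh W)
    {Q : ℚ[X]} (hQ : ShStab.IsHilbPoly k X L W Q) {QH : Fin (𝓔.l + 2) → ℚ[X]}
    (hQH : ∀ j, ShStab.IsHilbPoly k X L (cokernel ((𝓔.induced ι).pieceX j).arrow) (QH j)) :
    ∃ M : ℕ, ∀ m : ℕ, M ≤ m →
      (parPolyOne 𝓔 d Q QH H).eval (m : ℝ) * (StabCat.alpha d P : ℝ) ≤
        (parPoly 𝓔 PX).eval (m : ℝ) * (StabCat.alpha d Q : ℝ) := by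
  obtain ⟨T, κ, t, hκ, ht, hfac, hT, hsat, hα⟩ := exists_sat (k := k) hL hE hpure ι hW
  have hP0 : (0 : ℝ) ≤ (StabCat.alpha d P : ℝ) := by
    rw [HP96.eq_hp k hP]; exact_mod_cast (HP96.alpha_pure_pos hL hpure hE h0).le
  rw [← eventually_atTop]
  filter_upwards [parPolyOne_le_PP hL hE 𝓔 hcoh hH hq ι hW hQ hQH,
    PP_induced_mono (k := k) hL ι κ t hfac hE hW hT 𝓔 hcoh,
    PP_induced_le hL hE 𝓔 hcoh hPX hss κ hT hsat] with m h1 h2 h3
  rw [parPoly_eq_PP 𝓔 hPX, HP96.eq_hp k hQ, ← hα]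
  rw [HP96.eq_hp k hQ] at h1
  exact le_trans (mul_le_mul_of_nonneg_right (h1.trans h2) hP0) h3

/-- Stability and stable flag quotients give stability for the first modified polynomial. -/
theorem parPolyOne_stable (hE : Coh.IsCoh E) (h0 : ¬ IsZero E) {d : ℕ} (hpure : ShStab.IsPure X E d)
    (𝓔 : ParSh.Str E) (hcoh : ∀ j, Coh.IsCoh ((𝓔.pieceX j : Subobject E) : X.Modules))
    {P : ℚ[X]} (hP : ShStab.IsHilbPoly k X L E P) {PX : Fin (𝓔.l + 2) → ℚ[X]}
    {H : Fin (𝓔.l + 2) → ℚ[X]} (hH : ∀ j, ShStab.IsHilbPoly k X L (cokernel (𝓔.pieceX j).arrow) (H j))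
    (hq : ∀ j : Fin (𝓔.l + 1), ShStab.IsStable k X L (cokernel (𝓔.pieceX j.succ).arrow) (d - 1))
    {W : X.Modules} (ι : W ⟶ E) [Mono ι] (hW : Coh.IsCoh W)
    {Q : ℚ[X]} (hQ : ShStab.IsHilbPoly k X L W Q) {QH : Fin (𝓔.l + 2) → ℚ[X]}
    (hQH : ∀ j, ShStab.IsHilbPoly k X L (cokernel ((𝓔.induced ι).pieceX j).arrow) (QH j))
    (hst : ∀ QX : Fin (𝓔.l + 2) → ℚ[X],
      (∀ j, ShStab.IsHilbPoly k X L (((𝓔.induced ι).pieceX j : Subobject W) : X.Modules) (QX j)) →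
      ∃ M : ℕ, ∀ m : ℕ, M ≤ m →
        (parPoly (𝓔.induced ι) QX).eval (m : ℝ) * (StabCat.alpha d P : ℝ) <
          (parPoly 𝓔 PX).eval (m : ℝ) * (StabCat.alpha d Q : ℝ)) :
    ∃ M : ℕ, ∀ m : ℕ, M ≤ m →
      (parPolyOne 𝓔 d Q QH H).eval (m : ℝ) * (StabCat.alpha d P : ℝ) <
        (parPoly 𝓔 PX).eval (m : ℝ) * (StabCat.alpha d Q : ℝ) := by
  have := Crv77.isNoetherian_of_proper k X
  have hc := isCoh_induced ι hE hW 𝓔 hcoh
  have hP0 : (0 : ℝ) ≤ (StabCat.alpha d P : ℝ) := by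
    rw [HP96.eq_hp k hP]; exact_mod_cast (HP96.alpha_pure_pos hL hpure hE h0).le
  have hq' : ∀ j : Fin (𝓔.l + 1), ShStab.IsSemistable k X L (cokernel (𝓔.pieceX j.succ).arrow) (d - 1) :=
    fun j => ⟨(hq j).1, (hq j).2.1, (hq j).2.2.1, fun F μ hμ hF hF0 hi pF pE hpF hpE => by
      obtain ⟨N, hN⟩ := (hq j).2.2.2 F μ hμ hF hF0 hi pF pE hpF hpE
      exact ⟨N, fun m hm => (hN m hm).le⟩⟩
  have hst' : ∀ᶠ m : ℕ in atTop, (PP k L (𝓔.induced ι)).eval (m : ℝ) * (StabCat.alpha d P : ℝ) <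
      (parPoly 𝓔 PX).eval (m : ℝ) * (StabCat.alpha d Q : ℝ) :=
    eventually_atTop.2 (hst _ fun j => HP96.isHilbPoly_hp k hL.1 (hc j))
  rw [← eventually_atTop]
  filter_upwards [parPolyOne_le_PP hL hE 𝓔 hcoh hH hq' ι hW hQ hQH, hst'] with m h1 h2
  exact lt_of_le_of_lt (mul_le_mul_of_nonneg_right h1 hP0) h2

end Groth.Agent.H98Par

end
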