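import Groth.Agent.H98Par.Induced
import Groth.Agent.H98Par.Limit

/-! Comparison of parabolic Hilbert polynomials. -/

set_option autoImplicit false
set_option maxHeartbeats 400000
set_option backward.isDefEq.respectTransparency.types false

noncomputable section

universe u

open CategoryTheory Limits AlgebraicGeometry Polynomial Filter Topology
open W4swparbununimod (rpoly parPoly parPolyOne)

namespace Groth.Agent.H98Par

theorem eval_cast (P : ℚ[X]) (m : ℕ) :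
    ((P.eval (m : ℚ) : ℚ) : ℝ) = (rpoly P).eval (m : ℝ) := by
  rw [rpoly, eval_natCast_map]; rfl

theorem coeff_rpoly (P : ℚ[X]) (n : ℕ) : (rpoly P).coeff n = ((P.coeff n : ℚ) : ℝ) := by
  rw [rpoly, Polynomial.coeff_map]; rfl

theorem alpha_cast (d : ℕ) (P : ℚ[X]) :
    ((StabCat.alpha d P : ℚ) : ℝ) = (d.factorial : ℝ) * (rpoly P).coeff d := by
  rw [coeff_rpoly, StabCat.alpha]; push_cast; rfl

variable {X : Scheme.{u}} {E W : X.Modules} (ι : W ⟶ E)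

theorem dim_support_of_pure (hE : Coh.IsCoh E) (h0 : ¬ IsZero E) {d : ℕ}
    (hpure : ShStab.IsPure X E d) :
    topologicalKrullDim (CohB1.support E) < ((d + 1 : ℕ) : WithBot ℕ∞) := by
  rw [hpure E (𝟙 E) inferInstance hE h0]
  exact_mod_cast Nat.lt_succ_self d

theorem dim_support_mono [Mono ι] {d : ℕ}
    (h : topologicalKrullDim (CohB1.support E) < (d : WithBot ℕ∞)) :
    topologicalKrullDim (CohB1.support W) < (d : WithBot ℕ∞) := by
  refine lt_of_le_of_lt ?_ h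
  have hsub : CohB1.support W ⊆ CohB1.support E := fun x hx hx' => by
    haveI := hx'
    exact hx (QC70.injective_stalkMapM_of_mono ι x).subsingleton
  exact Topology.IsInducing.topologicalKrullDim_le (Topology.IsEmbedding.inclusion hsub).isInducing

variable {k : Type u} [Field k] [X.Over (Spec (CommRingCat.of k))]
  [IsProper (X ↘ (Spec (CommRingCat.of k)))] {L : X.Modules}

theorem compare_parPoly [Mono ι] (hL : PicF.IsInvertible L) (hE : Coh.IsCoh E) (hW : Coh.IsCoh W)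
    (h0 : ¬ IsZero E) {d : ℕ} (hd : 1 ≤ d) (hpure : ShStab.IsPure X E d)
    {I : X.IdealSheafData} (𝓔 : ParSh.Str E) (h𝓔 : 𝓔.Along I)
    (hcoh : ∀ j, Coh.IsCoh ((𝓔.pieceX j : Subobject E) : X.Modules))
    (hsupp : topologicalKrullDim ↥(CohB1.support E ∩ (I.support : Set X)) < (d : WithBot ℕ∞))
    {P : ℚ[X]} (hP : ShStab.IsHilbPoly k X L E P) {PX : Fin (𝓔.l + 2) → ℚ[X]}
    (hPX : ∀ j, ShStab.IsHilbPoly k X L ((𝓔.pieceX j : Subobject E) : X.Modules) (PX j))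
    {Q : ℚ[X]} (hQ : ShStab.IsHilbPoly k X L W Q) {QX : Fin (𝓔.l + 2) → ℚ[X]}
    (hQX : ∀ j, ShStab.IsHilbPoly k X L (((𝓔.induced ι).pieceX j : Subobject W) : X.Modules) (QX j)) :
    ((∃ M : ℕ, ∀ m : ℕ, M ≤ m →
        (parPoly (𝓔.induced ι) QX).eval (m : ℝ) * (StabCat.alpha d P : ℝ) ≤
          (parPoly 𝓔 PX).eval (m : ℝ) * (StabCat.alpha d Q : ℝ)) →
      (parPoly (𝓔.induced ι) QX).coeff (d - 1) * (StabCat.alpha d P : ℝ) ≤
        (parPoly 𝓔 PX).coeff (d - 1) * (StabCat.alpha d Q : ℝ)) ∧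
    ((parPoly (𝓔.induced ι) QX).coeff (d - 1) * (StabCat.alpha d P : ℝ) <
        (parPoly 𝓔 PX).coeff (d - 1) * (StabCat.alpha d Q : ℝ) →
      ∃ M : ℕ, ∀ m : ℕ, M ≤ m →
        (parPoly (𝓔.induced ι) QX).eval (m : ℝ) * (StabCat.alpha d P : ℝ) <
          (parPoly 𝓔 PX).eval (m : ℝ) * (StabCat.alpha d Q : ℝ)) := by
  set a : ℝ := (StabCat.alpha d P : ℝ) with ha
  set b : ℝ := (StabCat.alpha d Q : ℝ) with hb
  set F : ℝ[X] := parPoly (𝓔.induced ι) QX * C a - parPoly 𝓔 PX * C b with hF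
  have hev : ∀ m : ℕ, F.eval (m : ℝ) =
      (parPoly (𝓔.induced ι) QX).eval (m : ℝ) * a - (parPoly 𝓔 PX).eval (m : ℝ) * b := fun m => by
    simp [hF]
  have hco : ∀ n, F.coeff n =
      (parPoly (𝓔.induced ι) QX).coeff n * a - (parPoly 𝓔 PX).coeff n * b := fun n => by
    simp [hF]
  have hz : ∀ n, d - 1 < n → F.coeff n = 0 := fun n hn => by
    rw [hco, coeff_parPoly_induced ι hL hE hW 𝓔 h𝓔 hcoh hsupp hQ hQX (by omega),
      coeff_parPoly_eq hL hE 𝓔 hcoh hP h𝓔 hsupp hPX (by omega)]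
    rcases eq_or_lt_of_le (show d ≤ n by omega) with rfl | hlt
    · rw [ha, hb, alpha_cast, alpha_cast]; ring
    · have hdE := dim_support_of_pure hE h0 hpure
      rw [coeff_rpoly, coeff_rpoly, coeff_eq_zero_of_dim hL hE hdE hP hlt,
        coeff_eq_zero_of_dim hL hW (dim_support_mono ι hdE) hQ hlt]
      simp
  constructor
  · rintro ⟨M, hM⟩
    have h := coeff_nonpos_of_eventually F (d - 1) hz ⟨M, fun m hm => by
      rw [hev]; linarith [hM m hm]⟩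
    rw [hco] at h
    linarith
  · intro h
    obtain ⟨M, hM⟩ := eventually_neg_of_coeff F (d - 1) hz (by rw [hco]; linarith)
    exact ⟨M, fun m hm => by have := hM m hm; rw [hev] at this; linarith⟩

theorem coeff_parPolyOne (hL : PicF.IsInvertible L) (hE : Coh.IsCoh E)
    {I : X.IdealSheafData} (𝓔 : ParSh.Str E) (h𝓔 : 𝓔.Along I)
    (hcoh : ∀ j, Coh.IsCoh ((𝓔.pieceX j : Subobject E) : X.Modules)) {d : ℕ}
    (hsupp : topologicalKrullDim ↥(CohB1.support E ∩ (I.support : Set X)) < (d : WithBot ℕ∞))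
    {H : Fin (𝓔.l + 2) → ℚ[X]}
    (hH : ∀ j, ShStab.IsHilbPoly k X L (cokernel (𝓔.pieceX j).arrow) (H j))
    (hHa : ∀ j : Fin (𝓔.l + 1), StabCat.alpha (d - 1) (H j.succ) ≠ 0)
    (hW : Coh.IsCoh W)
    {Q : ℚ[X]} (hQ : ShStab.IsHilbPoly k X L W Q) {QX : Fin (𝓔.l + 2) → ℚ[X]}
    (hQX : ∀ j, ShStab.IsHilbPoly k X L (((𝓔.induced ι).pieceX j : Subobject W) : X.Modules) (QX j))
    {QH : Fin (𝓔.l + 2) → ℚ[X]}
    (hQH : ∀ j, ShStab.IsHilbPoly k X L (cokernel ((𝓔.induced ι).pieceX j).arrow) (QH j)) :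
    (parPolyOne 𝓔 d Q QH H).coeff d = (parPoly (𝓔.induced ι) QX).coeff d ∧
      (parPolyOne 𝓔 d Q QH H).coeff (d - 1) = (parPoly (𝓔.induced ι) QX).coeff (d - 1) := by
  have := Crv77.isNoetherian_of_proper k X
  have hc := isCoh_induced ι hE hW 𝓔 hcoh
  have hHd : ∀ j : Fin (𝓔.l + 1), (rpoly (H j.succ)).coeff d = 0 := fun j => by
    rw [coeff_rpoly, coeff_eq_zero_of_dim hL (isCoh_coker hE _ (hcoh _))
      (dim_support_coker I _ (twistSub_le h𝓔 _) hsupp) (hH _) le_rfl, Rat.cast_zero]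
  constructor
  · rw [coeff_parPoly_induced ι hL hE hW 𝓔 h𝓔 hcoh hsupp hQ hQX le_rfl, parPolyOne, coeff_sub,
      finsetSum_coeff, Finset.sum_eq_zero fun j _ => by rw [coeff_C_mul, hHd, mul_zero], sub_zero]
  · rw [parPoly_eq hL hW (𝓔.induced ι) hc hQ hQX hQH, parPolyOne, coeff_sub, coeff_sub,
      finsetSum_coeff, finsetSum_coeff]
    congr 1
    refine Finset.sum_congr rfl fun j _ => ?_
    rw [coeff_C_mul, coeff_C_mul, induced_wtX ι 𝓔, induced_wtX ι 𝓔, mul_assoc, coeff_rpoly, coeff_rpoly]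
    congr 1
    rw [← Rat.cast_mul]
    congr 1
    have h := hHa j
    unfold StabCat.alpha at h ⊢
    field_simp [(mul_ne_zero_iff.1 h).2]
    rfl

theorem compare_parPolyTwo [Mono ι] (hL : PicF.IsInvertible L) (hE : Coh.IsCoh E) (hW : Coh.IsCoh W)
    (h0 : ¬ IsZero E) {d : ℕ} (hd : 1 ≤ d) (hpure : ShStab.IsPure X E d)
    {I : X.IdealSheafData} (𝓔 : ParSh.Str E) (h𝓔 : 𝓔.Along I)
    (hcoh : ∀ j, Coh.IsCoh ((𝓔.pieceX j : Subobject E) : X.Modules))
    (hsupp : topologicalKrullDim ↥(CohB1.support E ∩ (I.support : Set X)) < (d : WithBot ℕ∞))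
    {P : ℚ[X]} (hP : ShStab.IsHilbPoly k X L E P)
    {H : Fin (𝓔.l + 2) → ℚ[X]}
    (hH : ∀ j, ShStab.IsHilbPoly k X L (cokernel (𝓔.pieceX j).arrow) (H j))
    (hHa : ∀ j : Fin (𝓔.l + 1), StabCat.alpha (d - 1) (H j.succ) ≠ 0)
    {Q : ℚ[X]} (hQ : ShStab.IsHilbPoly k X L W Q) {QH : Fin (𝓔.l + 2) → ℚ[X]}
    (hQH : ∀ j, ShStab.IsHilbPoly k X L (cokernel ((𝓔.induced ι).pieceX j).arrow) (QH j))
    (R : ℝ[X]) :
    ((∃ M : ℕ, ∀ m : ℕ, M ≤ m → ∃ N : ℕ, ∀ n : ℕ, N ≤ n →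
        (((Q.eval (m : ℚ) : ℚ) : ℝ) -
            ∑ j : Fin (𝓔.l + 1), (𝓔.wtX j.succ - 𝓔.wtX j.castSucc) *
              ((((QH j.succ).eval (n : ℚ) / (H j.succ).eval (n : ℚ) : ℚ) : ℝ) * (((H j.succ).eval (m : ℚ) : ℚ) : ℝ))) *
          ((P.eval (n : ℚ) : ℚ) : ℝ) ≤
        R.eval (m : ℝ) * ((Q.eval (n : ℚ) : ℚ) : ℝ)) →
      ∃ M : ℕ, ∀ m : ℕ, M ≤ m →
        (parPolyOne 𝓔 d Q QH H).eval (m : ℝ) * (StabCat.alpha d P : ℝ) ≤
          R.eval (m : ℝ) * (StabCat.alpha d Q : ℝ)) ∧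
    ((∃ M : ℕ, ∀ m : ℕ, M ≤ m →
        (parPolyOne 𝓔 d Q QH H).eval (m : ℝ) * (StabCat.alpha d P : ℝ) <
          R.eval (m : ℝ) * (StabCat.alpha d Q : ℝ)) →
      ∃ M : ℕ, ∀ m : ℕ, M ≤ m → ∃ N : ℕ, ∀ n : ℕ, N ≤ n →
        (((Q.eval (m : ℚ) : ℚ) : ℝ) -
            ∑ j : Fin (𝓔.l + 1), (𝓔.wtX j.succ - 𝓔.wtX j.castSucc) *
              ((((QH j.succ).eval (n : ℚ) / (H j.succ).eval (n : ℚ) : ℚ) : ℝ) * (((H j.succ).eval (m : ℚ) : ℚ) : ℝ))) *
          ((P.eval (n : ℚ) : ℚ) : ℝ) <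
        R.eval (m : ℝ) * ((Q.eval (n : ℚ) : ℚ) : ℝ)) := by
  have := Crv77.isNoetherian_of_proper k X
  have hc := isCoh_induced ι hE hW 𝓔 hcoh
  have hdE := dim_support_of_pure hE h0 hpure
  have hPz : ∀ n, d < n → (rpoly P).coeff n = 0 := fun n hn => by
    rw [coeff_rpoly, coeff_eq_zero_of_dim hL hE hdE hP hn, Rat.cast_zero]
  have hQz : ∀ n, d < n → (rpoly Q).coeff n = 0 := fun n hn => by
    rw [coeff_rpoly, coeff_eq_zero_of_dim hL hW (dim_support_mono ι hdE) hQ hn, Rat.cast_zero]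
  have hratio : ∀ j : Fin (𝓔.l + 1),
      Tendsto (fun n : ℕ => (((QH j.succ).eval (n : ℚ) / (H j.succ).eval (n : ℚ) : ℚ) : ℝ)) atTop
        (𝓝 ((StabCat.alpha (d - 1) (QH j.succ) / StabCat.alpha (d - 1) (H j.succ) : ℚ) : ℝ)) := by
    intro j
    have hHz : ∀ n, d - 1 < n → (rpoly (H j.succ)).coeff n = 0 := fun n hn => by
      rw [coeff_rpoly, coeff_eq_zero_of_dim hL (isCoh_coker hE _ (hcoh _))
        (dim_support_coker I _ (twistSub_le h𝓔 _) hsupp) (hH _) (by omega), Rat.cast_zero]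
    have hQHz : ∀ n, d - 1 < n → (rpoly (QH j.succ)).coeff n = 0 := fun n hn => by
      rw [coeff_rpoly, coeff_eq_zero_of_dim hL (isCoh_coker hW _ (hc j.succ))
        (dim_support_induced ι h𝓔 hsupp j.succ) (hQH _) (by omega), Rat.cast_zero]
    have hne : (rpoly (H j.succ)).coeff (d - 1) ≠ 0 := by
      rw [coeff_rpoly, Rat.cast_ne_zero]; exact (mul_ne_zero_iff.1 (hHa j)).2
    have hlim : ((StabCat.alpha (d - 1) (QH j.succ) / StabCat.alpha (d - 1) (H j.succ) : ℚ) : ℝ) =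
        (rpoly (QH j.succ)).coeff (d - 1) / (rpoly (H j.succ)).coeff (d - 1) := by
      rw [Rat.cast_div, alpha_cast, alpha_cast,
        mul_div_mul_left _ _ (Nat.cast_ne_zero.2 (Nat.factorial_ne_zero _))]
    rw [hlim]
    refine ((tendsto_eval_div_pow _ _ hQHz).div (tendsto_eval_div_pow _ _ hHz) hne).congr' ?_
    filter_upwards [eventually_ne_atTop 0] with n hn
    rw [Rat.cast_div, eval_cast, eval_cast]
    exact div_div_div_cancel_right₀ (pow_ne_zero _ (Nat.cast_ne_zero.2 hn)) _ _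
  -- the difference, divided by `n ^ d`
  have hlim : ∀ m : ℕ, Tendsto (fun n : ℕ =>
      ((((Q.eval (m : ℚ) : ℚ) : ℝ) -
            ∑ j : Fin (𝓔.l + 1), (𝓔.wtX j.succ - 𝓔.wtX j.castSucc) *
              ((((QH j.succ).eval (n : ℚ) / (H j.succ).eval (n : ℚ) : ℚ) : ℝ) * (((H j.succ).eval (m : ℚ) : ℚ) : ℝ))) *
          ((P.eval (n : ℚ) : ℚ) : ℝ) -
        R.eval (m : ℝ) * ((Q.eval (n : ℚ) : ℚ) : ℝ)) / (n : ℝ) ^ d) atTop
      (𝓝 ((parPolyOne 𝓔 d Q QH H).eval (m : ℝ) * (rpoly P).coeff d -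
        R.eval (m : ℝ) * (rpoly Q).coeff d)) := by
    intro m
    have he : (parPolyOne 𝓔 d Q QH H).eval (m : ℝ) = ((Q.eval (m : ℚ) : ℚ) : ℝ) -
        ∑ j : Fin (𝓔.l + 1), (𝓔.wtX j.succ - 𝓔.wtX j.castSucc) *
          (((StabCat.alpha (d - 1) (QH j.succ) / StabCat.alpha (d - 1) (H j.succ) : ℚ) : ℝ) *
            (((H j.succ).eval (m : ℚ) : ℚ) : ℝ)) := by
      rw [parPolyOne, eval_sub, eval_finsetSum, eval_cast]
      congr 1
      refine Finset.sum_congr rfl fun j _ => ?_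
      rw [eval_mul, eval_C, eval_cast, mul_assoc]
    rw [he]
    refine Tendsto.congr (fun n => ?_)
      ((((tendsto_finsetSum _ fun j _ => ((hratio j).mul_const _).const_mul _).const_sub _).mul
        (tendsto_eval_div_pow _ _ hPz)).sub ((tendsto_eval_div_pow _ _ hQz).const_mul _))
    rw [sub_div, mul_div_assoc, mul_div_assoc, eval_cast P, eval_cast Q n]
  have hfac : (0 : ℝ) < d.factorial := by exact_mod_cast Nat.factorial_pos d
  constructor
  · rintro ⟨M, hM⟩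
    refine ⟨M, fun m hm => ?_⟩
    obtain ⟨N, hN⟩ := hM m hm
    have h : _ ≤ (0 : ℝ) := le_of_tendsto (hlim m) (by
      filter_upwards [eventually_ge_atTop N] with n hn
      exact div_nonpos_of_nonpos_of_nonneg (sub_nonpos.2 (hN n hn)) (by positivity))
    have := mul_nonpos_of_nonneg_of_nonpos hfac.le h
    rw [alpha_cast, alpha_cast]
    linarith
  · rintro ⟨M, hM⟩
    refine ⟨M, fun m hm => ?_⟩
    have h := hM m hm
    rw [alpha_cast, alpha_cast] at h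
    have hneg : (parPolyOne 𝓔 d Q QH H).eval (m : ℝ) * (rpoly P).coeff d -
        R.eval (m : ℝ) * (rpoly Q).coeff d < 0 := by
      by_contra hc'
      have := mul_nonneg hfac.le (not_lt.1 hc')
      linarith
    obtain ⟨N, hN⟩ := eventually_atTop.1 ((hlim m).eventually (eventually_lt_nhds hneg))
    refine ⟨N + 1, fun n hn => ?_⟩
    have hp : (0 : ℝ) < (n : ℝ) ^ d := pow_pos (by exact_mod_cast (show 0 < n by omega)) d
    have := hN n (by omega)
    rwa [div_lt_iff₀ hp, zero_mul, sub_neg] at this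

end Groth.Agent.H98Par

end
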