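import Groth.Agent.DCK91.StalkTensorNat
import Groth.Agent.Crv77.Degree
import Groth.Agent.Curves2.Ample.Semiample
import Groth.Prelude.Def_ParBun

/-! The cokernel of `E ⊗ I → E` is supported on the zero scheme of `I`. -/

set_option autoImplicit false
set_option maxHeartbeats 400000
set_option backward.isDefEq.respectTransparency.types false

noncomputable section

universe u

open CategoryTheory Limits AlgebraicGeometry MonoidalCategory

namespace Groth.Agent.H98Par

open Groth.Agent.DCK91

variable {X : Scheme.{u}}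

theorem subsingleton_stalk_of_isZero_SP {M : X.Modules} {x : X} (h : IsZero ((SP x).obj M)) :
    Subsingleton (M.presheaf.stalk x) := by
  have : Subsingleton ((SP x).obj M) := ModuleCat.subsingleton_of_isZero h
  exact this

theorem isZero_SP_of_subsingleton {M : X.Modules} {x : X} (h : Subsingleton (M.presheaf.stalk x)) :
    IsZero ((SP x).obj M) :=
  @ModuleCat.isZero_of_subsingleton _ _ _ h

instance isLeftAdjoint_SP (x : X) : (SP x).IsLeftAdjoint := ⟨_, ⟨skyAdj x⟩⟩

theorem isZero_SP_cokernel {M N : X.Modules} (f : M ⟶ N) (x : X) [Epi ((SP x).map f)] :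
    IsZero ((SP x).obj (cokernel f)) := by
  have h0 : (SP x).map f ≫ (SP x).map (cokernel.π f) = 0 := by
    rw [← Functor.map_comp, cokernel.condition, Functor.map_zero]
  have h1 : (SP x).map (cokernel.π f) = 0 := (cancel_epi ((SP x).map f)).1 (h0.trans comp_zero.symm)
  rw [IsZero.iff_id_eq_zero]
  exact (cancel_epi ((SP x).map (cokernel.π f))).1 (by rw [h1, zero_comp, zero_comp])

theorem epi_SP_idealModι (I : X.IdealSheafData) (x : X) (hx : x ∉ (I.support : Set X)) :
    Epi ((SP x).map (ClSub.idealModι I)) := by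
  have hz : IsZero ((SP x).obj (ClSub.quotMod I)) :=
    isZero_SP_of_subsingleton (Crv77.suppIn_quotMod I x hx)
  haveI : PreservesColimitsOfSize.{0, 0} (SP x) := (skyAdj x).leftAdjoint_preservesColimits
  have hS : ((Crv77.idealSeq I).map (SP x)).Exact := ShortComplex.exact_of_g_is_cokernel _
    (CokernelCofork.mapIsColimit _ (Crv77.idealSeq_shortExact I).gIsCokernel (SP x))
  exact hS.epi_f (hz.eq_of_tgt _ _)

theorem epi_curried_map {R : Type u} [CommRing R] (M : ModuleCat.{u} R) {N N' : ModuleCat.{u} R}
    (g : N ⟶ N') [Epi g] : Epi (((curriedTensor (ModuleCat.{u} R)).obj M).map g) :=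
  (ModuleCat.epi_iff_surjective _).2 (LinearMap.lTensor_surjective M ((ModuleCat.epi_iff_surjective g).1 inferInstance))

theorem epi_SP_tensor_map (x : X) (E : X.Modules) {N N' : X.Modules} (g : N ⟶ N') [Epi ((SP x).map g)] :
    Epi ((SP x).map ((DCoh.tensorBi.obj E).map g)) := by
  haveI : Epi (((curriedTensor (ModuleCat.{u} (X.presheaf.stalk x))).obj ((SP x).obj E)).map
      ((SP x).map g)) := epi_curried_map _ _
  haveI : Epi (tensorStalk x E N ≫ (SP x).map ((DCoh.tensorBi.obj E).map g)) := by
    rw [← tensorStalk_right x E g]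
    infer_instance
  exact epi_of_epi (tensorStalk x E N) _

theorem tensorMap_id_left {M N N' : X.Modules} (g : N ⟶ N') :
    KoszTw.tensorMap (𝟙 M) g = (DCoh.tensorBi.obj M).map g := by
  unfold KoszTw.tensorMap
  rw [CategoryTheory.Functor.map_id]
  exact Category.id_comp _

theorem epi_SP_twistMap (I : X.IdealSheafData) (E : X.Modules) (x : X) (hx : x ∉ (I.support : Set X)) :
    Epi ((SP x).map (ParSh.twistMap I E)) := by
  haveI := epi_SP_idealModι I x hx
  have h1 := epi_SP_tensor_map x E (ClSub.idealModι I)
  unfold ParSh.twistMap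
  rw [tensorMap_id_left]
  refine (Functor.map_comp (SP x) ((DCoh.tensorBi.obj E).map (ClSub.idealModι I)) (SecTwist.unitorR E).hom).symm ▸ ?_
  have h2 : Epi ((SP x).map (SecTwist.unitorR E).hom) := inferInstance
  exact @epi_comp _ _ _ _ _ _ h1 _ h2

theorem suppIn_cokernel_of_twistSub_le (I : X.IdealSheafData) (E : X.Modules) (F : Subobject E)
    (hle : ParSh.twistSub I E ≤ F) : Crv77.SuppIn (cokernel F.arrow) (I.support : Set X) := by
  intro x hx
  haveI := epi_SP_twistMap I E x hx
  apply subsingleton_stalk_of_isZero_SP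
  have e : ParSh.twistMap I E =
      (factorThruImageSubobject (ParSh.twistMap I E) ≫ Subobject.ofLE _ _ hle) ≫ F.arrow := by
    rw [Category.assoc, Subobject.ofLE_arrow, imageSubobject_arrow_comp]
  haveI : Epi ((SP x).map F.arrow) := by
    have : Epi ((SP x).map (factorThruImageSubobject (ParSh.twistMap I E) ≫ Subobject.ofLE _ _ hle) ≫
        (SP x).map F.arrow) := by
      rw [← Functor.map_comp, ← e]; infer_instance
    exact epi_of_epi ((SP x).map (factorThruImageSubobject (ParSh.twistMap I E) ≫ Subobject.ofLE _ _ hle)) _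
  exact isZero_SP_cokernel _ x

theorem suppIn_cokernel_support (E : X.Modules) (F : Subobject E) :
    Crv77.SuppIn (cokernel F.arrow) (CohB1.support E) := by
  intro x hx
  apply subsingleton_stalk_of_isZero_SP
  have hE : IsZero ((SP x).obj E) := isZero_SP_of_subsingleton (not_not.1 hx)
  rw [IsZero.iff_id_eq_zero]
  exact (cancel_epi ((SP x).map (cokernel.π F.arrow))).1 (hE.eq_of_src _ _)

end Groth.Agent.H98Par

end
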